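import Groth.Agent.Lib.Helper2.Kos6

/-! # Elementwise access to cycles and homology of complexes of modules -/

open CategoryTheory CategoryTheory.Limits CochainComplex HomologicalComplex

universe u

namespace Groth.Agent.H8.CK

variable {A : Type u} [CommRing A]

section

variable (K L : CochainComplex (ModuleCat.{u} A) ℤ) (φ : K ⟶ L) (j : ℤ)

lemma iCycles_injective : Function.Injective (K.iCycles j).hom :=
  (ModuleCat.mono_iff_injective _).mp inferInstance

lemma homologyπ_surjective : Function.Surjective (K.homologyπ j).hom :=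
  (ModuleCat.epi_iff_surjective _).mp inferInstance

lemma d_iCycles_apply (j' : ℤ) (z : K.cycles j) : (K.d j j').hom ((K.iCycles j).hom z) = 0 := by
  exact congrArg (fun f => f.hom z) (K.iCycles_d j j')

lemma exists_cycle (y : K.X j) (hy : (K.d j (j + 1)).hom y = 0) :
    ∃ z : K.cycles j, (K.iCycles j).hom z = y := by
  let k : ModuleCat.of A A ⟶ K.X j := ModuleCat.ofHom (LinearMap.toSpanSingleton A (K.X j) y)
  have hk : k ≫ K.d j (j + 1) = 0 := by
    ext
    simp [k, hy]
  refine ⟨(K.liftCycles k (j + 1) (by simp) hk).hom (1 : A), ?_⟩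
  have := congrArg (fun f => f.hom (1 : A)) (K.liftCycles_i k (j + 1) (by simp) hk)
  refine Eq.trans this ?_
  simp [k]

variable {K L}

lemma homologyMap_π_apply (z : K.cycles j) :
    (homologyMap φ j).hom ((K.homologyπ j).hom z) = (L.homologyπ j).hom ((cyclesMap φ j).hom z) := by
  exact congrArg (fun f => f.hom z) (homologyπ_naturality φ j)

lemma iCycles_cyclesMap_apply (z : K.cycles j) :
    (L.iCycles j).hom ((cyclesMap φ j).hom z) = (φ.f j).hom ((K.iCycles j).hom z) := by
  exact congrArg (fun f => f.hom z) (cyclesMap_i φ j)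

/-- a homology class whose representing cycles all die under `φ` dies under `φ`. -/
lemma homologyMap_apply_eq_zero (x : K.homology j)
    (h : ∀ y : K.X j, (K.d j (j + 1)).hom y = 0 → (φ.f j).hom y = 0) :
    (homologyMap φ j).hom x = 0 := by
  obtain ⟨z, rfl⟩ := homologyπ_surjective K j x
  rw [homologyMap_π_apply]
  have hz : (cyclesMap φ j).hom z = 0 := by
    apply iCycles_injective L j
    rw [iCycles_cyclesMap_apply, map_zero]
    exact h _ (d_iCycles_apply K j _ z)
  rw [hz, map_zero]

end

end Groth.Agent.H8.CK
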