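import Mathlib.Algebra.Category.ModuleCat.Abelian
import Mathlib.Algebra.Homology.ShortComplex.ModuleCat
import Mathlib.Algebra.Homology.ShortComplex.ShortExact
import Mathlib.Algebra.Exact.Basic
import Mathlib.GroupTheory.QuotientGroup.Basic

/-! # Abstract dimension shifting: comparing two cohomological sequences of functors on modules -/

universe u
open CategoryTheory

namespace Groth.Agent.H8.CK

section groups

variable {A B C : Type*} [AddCommGroup A] [AddCommGroup B] [AddCommGroup C]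

lemma injective_of_exact_of_subsingleton (f : A →+ B) (g : B →+ C) (h : Function.Exact f g)
    [Subsingleton A] : Function.Injective g := by
  rw [injective_iff_map_eq_zero]
  intro x hx
  obtain ⟨a, rfl⟩ := (h x).1 hx
  rw [Subsingleton.elim a 0, map_zero]

lemma surjective_of_exact_of_subsingleton (f : A →+ B) (g : B →+ C) (h : Function.Exact f g)
    [Subsingleton C] : Function.Surjective f := by
  intro y
  exact (h y).1 (Subsingleton.elim _ _)

/-- cokernels of compatible maps agree. -/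
lemma nonempty_coker_equiv {X X' G G' : Type*} [AddCommGroup X] [AddCommGroup X'] [AddCommGroup G]
    [AddCommGroup G'] (η : X →+ G) (η' : X' →+ G') (a : X →+ X') (b : G →+ G')
    (ha : Function.Surjective a) (hb : Function.Bijective b) (comm : ∀ x, b (η x) = η' (a x)) :
    Nonempty ((G ⧸ η.range) ≃+ (G' ⧸ η'.range)) := by
  refine ⟨QuotientAddGroup.congr _ _ (AddEquiv.ofBijective b hb) ?_⟩
  ext y
  constructor
  · rintro ⟨_, ⟨x, rfl⟩, rfl⟩
    exact ⟨a x, (comm x).symm⟩
  · rintro ⟨x', rfl⟩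
    obtain ⟨x, rfl⟩ := ha x'
    exact ⟨η x, ⟨x, rfl⟩, comm x⟩

/-- the snake piece. -/
lemma nonempty_coker_equiv_ker {X1 X2 X3 G1 G2 G3 : Type*} [AddCommGroup X1] [AddCommGroup X2]
    [AddCommGroup X3] [AddCommGroup G1] [AddCommGroup G2] [AddCommGroup G3]
    (j : X1 →+ X2) (ρ : X2 →+ X3) (J : G1 →+ G2) (P : G2 →+ G3)
    (η1 : X1 →+ G1) (η2 : X2 →+ G2) (η3 : X3 →+ G3)
    (hρ : Function.Surjective ρ) (hjρ : Function.Exact j ρ)
    (hJ : Function.Injective J) (hJP : Function.Exact J P)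
    (h2 : Function.Bijective η2)
    (c1 : ∀ x, J (η1 x) = η2 (j x)) (c2 : ∀ x, P (η2 x) = η3 (ρ x)) :
    Nonempty ((G1 ⧸ η1.range) ≃+ η3.ker) := by
  let e2 : X2 ≃+ G2 := AddEquiv.ofBijective η2 h2
  let φ : G1 →+ X3 := ρ.comp (e2.symm.toAddMonoidHom.comp J)
  have hφ : ∀ t, φ t = ρ (e2.symm (J t)) := fun _ => rfl
  have hker : φ.ker = η1.range := by
    ext t
    rw [AddMonoidHom.mem_ker, hφ]
    constructor
    · intro h
      obtain ⟨x, hx⟩ := (hjρ _).1 h
      refine ⟨x, hJ ?_⟩
      rw [c1, hx]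
      exact e2.apply_symm_apply _
    · rintro ⟨x, rfl⟩
      rw [c1]
      have : e2.symm (η2 (j x)) = j x := e2.symm_apply_apply _
      rw [this]
      exact (hjρ _).2 ⟨x, rfl⟩
  have hrange : φ.range = η3.ker := by
    ext q
    constructor
    · rintro ⟨t, rfl⟩
      rw [AddMonoidHom.mem_ker, hφ, ← c2]
      have : η2 (e2.symm (J t)) = J t := e2.apply_symm_apply _
      rw [this]
      exact (hJP _).2 ⟨t, rfl⟩
    · intro hq
      rw [AddMonoidHom.mem_ker] at hq
      obtain ⟨e, rfl⟩ := hρ q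
      rw [← c2] at hq
      obtain ⟨t, ht⟩ := (hJP _).1 hq
      refine ⟨t, ?_⟩
      rw [hφ, ht]
      congr 1
      exact e2.symm_apply_apply _
  exact ⟨(QuotientAddGroup.quotientAddEquivOfEq hker.symm).trans
    ((QuotientAddGroup.quotientKerEquivRange φ).trans (AddEquiv.addSubgroupCongr hrange))⟩

end groups

variable (A : Type u) [CommRing A]

/-- A cohomological sequence of additive functors on modules: only the exactness properties that
the dimension-shifting argument uses. -/
structure CohSeq where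
  obj : ℕ → ModuleCat.{u} A → Type u
  grp : ∀ p M, AddCommGroup (obj p M)
  map : ∀ (p : ℕ) {M N : ModuleCat.{u} A}, (M ⟶ N) → (obj p M →+ obj p N)
  les : ∀ (S : ShortComplex (ModuleCat.{u} A)), S.ShortExact →
    ∃ δ : ∀ p, obj p S.X₃ →+ obj (p + 1) S.X₁,
      Function.Injective (map 0 S.f) ∧
      (∀ p, Function.Exact (map p S.f) (map p S.g)) ∧
      (∀ p, Function.Exact (map p S.g) (δ p)) ∧
      (∀ p, Function.Exact (δ p) (map (p + 1) S.f))

attribute [instance] CohSeq.grp

variable {A}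

/-- modules on which `T` vanishes and `H` vanishes in positive degrees. -/
def IsTorsLike (T H : CohSeq A) (N : ModuleCat.{u} A) : Prop :=
  (∀ p, Subsingleton (T.obj p N)) ∧ (∀ q, Subsingleton (H.obj (q + 1) N))

/-- modules acyclic for both sequences, with `η` bijective. -/
def IsGood (T H : CohSeq A) (η : ∀ M : ModuleCat.{u} A, M →+ T.obj 0 M) (E : ModuleCat.{u} A) :
    Prop :=
  (∀ p, Subsingleton (T.obj (p + 1) E)) ∧ Function.Bijective (η E) ∧
    (∀ q, Subsingleton (H.obj q E))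

/-- the two short exact sequences used for dimension shifting. -/
def HasShift (T H : CohSeq A) (η : ∀ M : ModuleCat.{u} A, M →+ T.obj 0 M) (M : ModuleCat.{u} A) :
    Prop :=
  ∃ (N M' E Q : ModuleCat.{u} A) (i : N ⟶ M) (π : M ⟶ M') (w : i ≫ π = 0) (j : M' ⟶ E)
    (ρ : E ⟶ Q) (w' : j ≫ ρ = 0),
    (ShortComplex.mk i π w).ShortExact ∧ (ShortComplex.mk j ρ w').ShortExact ∧
      IsTorsLike T H N ∧ IsGood T H η E

section main

variable (T H : CohSeq A) (η : ∀ M : ModuleCat.{u} A, M →+ T.obj 0 M)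
  (hη : ∀ {M N : ModuleCat.{u} A} (φ : M ⟶ N) (x : M), T.map 0 φ (η M x) = η N (φ.hom x))
  (hshift : ∀ M, HasShift T H η M)
  (h0 : ∀ M, Nonempty ((η M).ker ≃+ H.obj 0 M))

include hη hshift h0

/-- the cokernel of `η` is `H¹`. -/
theorem nonempty_coker_equiv_H1 (M : ModuleCat.{u} A) :
    Nonempty ((T.obj 0 M ⧸ (η M).range) ≃+ H.obj 1 M) := by
  obtain ⟨N, M', E, Q, i, π, w, j, ρ, w', hS1, hS2, ⟨hTN, hHN⟩, ⟨hTE, hηE, hHE⟩⟩ := hshift M
  obtain ⟨δT1, -, exT1a, exT1b, -⟩ := T.les _ hS1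
  obtain ⟨δH1, -, exH1a, exH1b, -⟩ := H.les _ hS1
  obtain ⟨δT2, injT2, exT2a, -, -⟩ := T.les _ hS2
  obtain ⟨δH2, -, -, exH2b, exH2c⟩ := H.les _ hS2
  have hπ : Function.Surjective π.hom := (ModuleCat.epi_iff_surjective _).mp hS1.epi_g
  have hρ : Function.Surjective ρ.hom := (ModuleCat.epi_iff_surjective _).mp hS2.epi_g
  have hjρ : Function.Exact j.hom ρ.hom :=
    (ShortComplex.ShortExact.moduleCat_exact_iff_function_exact _).mp hS2.exact
  -- step 1
  have hb : Function.Bijective (T.map 0 π) := by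
    have := hTN 0
    have := hTN 1
    exact ⟨injective_of_exact_of_subsingleton _ _ (exT1a 0),
      surjective_of_exact_of_subsingleton _ _ (exT1b 0)⟩
  obtain ⟨e1⟩ := nonempty_coker_equiv (η M) (η M') π.hom.toAddMonoidHom (T.map 0 π) hπ hb
    (fun x => hη π x)
  -- step 2
  obtain ⟨e2⟩ := nonempty_coker_equiv_ker j.hom.toAddMonoidHom ρ.hom.toAddMonoidHom
    (T.map 0 j) (T.map 0 ρ) (η M') (η E) (η Q) hρ hjρ injT2 (exT2a 0) hηE
    (fun x => hη j x) (fun x => hη ρ x)
  -- step 3
  obtain ⟨e3⟩ := h0 Q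
  -- step 4
  have hδ : Function.Bijective (δH2 0) := by
    have := hHE 0
    have := hHE 1
    exact ⟨injective_of_exact_of_subsingleton _ _ (exH2b 0),
      surjective_of_exact_of_subsingleton _ _ (exH2c 0)⟩
  have hH1 : Function.Bijective (H.map 1 π) := by
    have := hHN 0
    have := hHN 1
    exact ⟨injective_of_exact_of_subsingleton _ _ (exH1a 1),
      surjective_of_exact_of_subsingleton _ _ (exH1b 1)⟩
  exact ⟨e1.trans (e2.trans (e3.trans ((AddEquiv.ofBijective _ hδ).trans
    (AddEquiv.ofBijective _ hH1).symm)))⟩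

/-- dimension shifting: `T^p ≃ H^{p+1}` for `p ≥ 1`. -/
theorem nonempty_equiv_succ (p : ℕ) :
    ∀ M : ModuleCat.{u} A, Nonempty (T.obj (p + 1) M ≃+ H.obj (p + 2) M) := by
  induction p with
  | zero =>
    intro M
    obtain ⟨N, M', E, Q, i, π, w, j, ρ, w', hS1, hS2, ⟨hTN, hHN⟩, ⟨hTE, hηE, hHE⟩⟩ := hshift M
    obtain ⟨δT1, -, exT1a, exT1b, -⟩ := T.les _ hS1
    obtain ⟨δH1, -, exH1a, exH1b, -⟩ := H.les _ hS1
    obtain ⟨δT2, -, -, exT2b, exT2c⟩ := T.les _ hS2
    obtain ⟨δH2, -, -, exH2b, exH2c⟩ := H.les _ hS2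
    have hρ : Function.Surjective ρ.hom := (ModuleCat.epi_iff_surjective _).mp hS2.epi_g
    have hT1 : Function.Bijective (T.map 1 π) := by
      have := hTN 1
      have := hTN 2
      exact ⟨injective_of_exact_of_subsingleton _ _ (exT1a 1),
        surjective_of_exact_of_subsingleton _ _ (exT1b 1)⟩
    have hδsurj : Function.Surjective (δT2 0) := by
      have := hTE 0
      exact surjective_of_exact_of_subsingleton _ _ (exT2c 0)
    have hker : (δT2 0).ker = (η Q).range := by
      ext t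
      rw [AddMonoidHom.mem_ker, exT2b 0 t]
      constructor
      · rintro ⟨s, rfl⟩
        obtain ⟨e, rfl⟩ := hηE.2 s
        exact ⟨ρ.hom e, (hη ρ e).symm⟩
      · rintro ⟨q, rfl⟩
        obtain ⟨e, rfl⟩ := hρ q
        exact ⟨η E e, hη ρ e⟩
    obtain ⟨eQ⟩ := nonempty_coker_equiv_H1 T H η hη hshift h0 Q
    have hδ : Function.Bijective (δH2 1) := by
      have := hHE 1
      have := hHE 2
      exact ⟨injective_of_exact_of_subsingleton _ _ (exH2b 1),
        surjective_of_exact_of_subsingleton _ _ (exH2c 1)⟩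
    have hH2 : Function.Bijective (H.map 2 π) := by
      have := hHN 1
      have := hHN 2
      exact ⟨injective_of_exact_of_subsingleton _ _ (exH1a 2),
        surjective_of_exact_of_subsingleton _ _ (exH1b 2)⟩
    exact ⟨(AddEquiv.ofBijective _ hT1).trans
      ((QuotientAddGroup.quotientKerEquivOfSurjective (δT2 0) hδsurj).symm.trans
        ((QuotientAddGroup.quotientAddEquivOfEq hker).trans (eQ.trans
          ((AddEquiv.ofBijective _ hδ).trans (AddEquiv.ofBijective _ hH2).symm))))⟩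
  | succ p ih =>
    intro M
    obtain ⟨N, M', E, Q, i, π, w, j, ρ, w', hS1, hS2, ⟨hTN, hHN⟩, ⟨hTE, hηE, hHE⟩⟩ := hshift M
    obtain ⟨δT1, -, exT1a, exT1b, -⟩ := T.les _ hS1
    obtain ⟨δH1, -, exH1a, exH1b, -⟩ := H.les _ hS1
    obtain ⟨δT2, -, -, exT2b, exT2c⟩ := T.les _ hS2
    obtain ⟨δH2, -, -, exH2b, exH2c⟩ := H.les _ hS2
    have hT1 : Function.Bijective (T.map (p + 2) π) := by
      have := hTN (p + 2)
      have := hTN (p + 3)
      exact ⟨injective_of_exact_of_subsingleton _ _ (exT1a (p + 2)),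
        surjective_of_exact_of_subsingleton _ _ (exT1b (p + 2))⟩
    have hδT : Function.Bijective (δT2 (p + 1)) := by
      have := hTE p
      have := hTE (p + 1)
      exact ⟨injective_of_exact_of_subsingleton _ _ (exT2b (p + 1)),
        surjective_of_exact_of_subsingleton _ _ (exT2c (p + 1))⟩
    obtain ⟨eQ⟩ := ih Q
    have hδ : Function.Bijective (δH2 (p + 2)) := by
      have := hHE (p + 2)
      have := hHE (p + 3)
      exact ⟨injective_of_exact_of_subsingleton _ _ (exH2b (p + 2)),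
        surjective_of_exact_of_subsingleton _ _ (exH2c (p + 2))⟩
    have hH2 : Function.Bijective (H.map (p + 3) π) := by
      have := hHN (p + 2)
      have := hHN (p + 3)
      exact ⟨injective_of_exact_of_subsingleton _ _ (exH1a (p + 3)),
        surjective_of_exact_of_subsingleton _ _ (exH1b (p + 3))⟩
    exact ⟨(AddEquiv.ofBijective _ hT1).trans ((AddEquiv.ofBijective _ hδT).symm.trans
      (eQ.trans ((AddEquiv.ofBijective _ hδ).trans (AddEquiv.ofBijective _ hH2).symm)))⟩

end main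

end Groth.Agent.H8.CK
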