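import Groth.Agent.Lib.Helper8.CK.KTrans
import Groth.Agent.Lib.Helper8.CK.Abs

/-! # Direct-limit Koszul cohomology: functoriality and the long exact sequence -/

open CategoryTheory CategoryTheory.Limits CochainComplex HomologicalComplex
  CochainComplex.HomComplex

universe u

namespace Groth.Agent.H8.CK

open CohIII Groth.Agent.H2.Kos

variable {A : Type u} [CommRing A]

/-- the list of `n`-th powers. -/
abbrev pw (fs : List A) (n : ℕ) : List A := fs.map (· ^ n)

/-- Koszul cohomology of the `n`-th powers in degree `j`. -/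
noncomputable abbrev HP (fs : List A) (M : ModuleCat.{u} A) (j : ℤ) (n : ℕ) : ModuleCat.{u} A :=
  (koszulCx M (pw fs n)).homology j

/-- transition maps. -/
noncomputable abbrev tr (fs : List A) (M : ModuleCat.{u} A) (j : ℤ) (n m : ℕ) (h : n ≤ m) :
    HP fs M j n →ₗ[A] HP fs M j m :=
  (HomologicalComplex.homologyMap (koszulTrans M n m h fs) j).hom

instance directedSystem_tr (fs : List A) (M : ModuleCat.{u} A) (j : ℤ) :
    DirectedSystem (fun n => HP fs M j n) (fun n m h => tr fs M j n m h) where
  map_self n x := by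
    change (HomologicalComplex.homologyMap (koszulTrans M n n le_rfl fs) j).hom x = x
    rw [koszulTrans_refl, HomologicalComplex.homologyMap_id]
    rfl
  map_map k m n hnm hmk x := by
    change (HomologicalComplex.homologyMap (koszulTrans M m k hmk fs) j).hom
      ((HomologicalComplex.homologyMap (koszulTrans M n m hnm fs) j).hom x) =
      (HomologicalComplex.homologyMap (koszulTrans M n k (hnm.trans hmk) fs) j).hom x
    rw [← koszulTrans_comp M n m k hnm hmk, HomologicalComplex.homologyMap_comp]
    rfl

/-- the direct limit of the Koszul cohomologies of the powers in degree `j`. -/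
noncomputable abbrev HL (fs : List A) (M : ModuleCat.{u} A) (j : ℤ) : Type u :=
  Module.DirectLimit (fun n : ℕ => (HP fs M j n : Type u)) (tr fs M j)

lemma koszulHLim_eq (fs : List A) (M : ModuleCat.{u} A) (p : ℕ) :
    koszulHLim fs M p = HL fs M ((p : ℤ) - fs.length) := rfl

/-- functoriality in the module, at each level. -/
noncomputable abbrev hpMap (fs : List A) {M N : ModuleCat.{u} A} (g : M ⟶ N) (j : ℤ) (n : ℕ) :
    HP fs M j n →ₗ[A] HP fs N j n :=
  (HomologicalComplex.homologyMap (kmap g (pw fs n)) j).hom

lemma hpMap_tr (fs : List A) {M N : ModuleCat.{u} A} (g : M ⟶ N) (j : ℤ) (n m : ℕ) (h : n ≤ m) :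
    hpMap fs g j m ∘ₗ tr fs M j n m h = tr fs N j n m h ∘ₗ hpMap fs g j n := by
  have h1 := congrArg (fun φ => HomologicalComplex.homologyMap φ j)
    (koszulTrans_kmap g n m h fs)
  simp only [HomologicalComplex.homologyMap_comp] at h1
  have h2 := congrArg ModuleCat.Hom.hom h1
  simp only [ModuleCat.hom_comp] at h2
  exact h2

/-- functoriality of the direct-limit Koszul cohomology in the module. -/
noncomputable def hlMap (fs : List A) {M N : ModuleCat.{u} A} (g : M ⟶ N) (j : ℤ) :
    HL fs M j →ₗ[A] HL fs N j :=
  Module.DirectLimit.map (fun n => hpMap fs g j n) (fun n m h => hpMap_tr fs g j n m h)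

section LES

variable (fs : List A) (S : ShortComplex (ModuleCat.{u} A)) (hS : S.ShortExact)

/-- the morphism of short complexes of Koszul complexes induced by the transition maps. -/
noncomputable def kSCtrans (n m : ℕ) (h : n ≤ m) : kSC S (pw fs n) ⟶ kSC S (pw fs m) where
  τ₁ := koszulTrans S.X₁ n m h fs
  τ₂ := koszulTrans S.X₂ n m h fs
  τ₃ := koszulTrans S.X₃ n m h fs
  comm₁₂ := koszulTrans_kmap S.f n m h fs
  comm₂₃ := koszulTrans_kmap S.g n m h fs

include hS in
lemma δ_tr (i j : ℤ) (hij : i + 1 = j) (n m : ℕ) (h : n ≤ m) :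
    ((kSC_shortExact S hS (pw fs m)).δ i j hij).hom ∘ₗ tr fs S.X₃ i n m h =
      tr fs S.X₁ j n m h ∘ₗ ((kSC_shortExact S hS (pw fs n)).δ i j hij).hom := by
  have h1 := HomologicalComplex.HomologySequence.δ_naturality (kSCtrans fs S n m h)
    (kSC_shortExact S hS (pw fs n)) (kSC_shortExact S hS (pw fs m)) i j hij
  have h2 := congrArg ModuleCat.Hom.hom h1
  simp only [ModuleCat.hom_comp] at h2
  exact h2.symm

/-- the connecting homomorphism of the direct-limit Koszul cohomology. -/
noncomputable def hlδ (hS : S.ShortExact) (i j : ℤ) (hij : i + 1 = j) :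
    HL fs S.X₃ i →ₗ[A] HL fs S.X₁ j :=
  Module.DirectLimit.map (fun n => ((kSC_shortExact S hS (pw fs n)).δ i j hij).hom)
    (fun n m h => δ_tr fs S hS i j hij n m h)

include hS in
lemma hl_exact₂ (j : ℤ) : Function.Exact (hlMap fs S.f j) (hlMap fs S.g j) := by
  apply dlim_map_exact
  intro n
  exact (ShortComplex.ShortExact.moduleCat_exact_iff_function_exact _).mp
    ((kSC_shortExact S hS (pw fs n)).homology_exact₂ j)

lemma hl_exact₃ (i j : ℤ) (hij : i + 1 = j) :
    Function.Exact (hlMap fs S.g i) (hlδ fs S hS i j hij) := by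
  apply dlim_map_exact
  intro n
  exact (ShortComplex.ShortExact.moduleCat_exact_iff_function_exact _).mp
    ((kSC_shortExact S hS (pw fs n)).homology_exact₃ i j hij)

lemma hl_exact₁ (i j : ℤ) (hij : i + 1 = j) :
    Function.Exact (hlδ fs S hS i j hij) (hlMap fs S.f j) := by
  apply dlim_map_exact
  intro n
  exact (ShortComplex.ShortExact.moduleCat_exact_iff_function_exact _).mp
    ((kSC_shortExact S hS (pw fs n)).homology_exact₁ i j hij)

include hS in
lemma hpMap_injective_bottom (j : ℤ) (hj : j = -(fs.length : ℤ)) (n : ℕ) :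
    Function.Injective (hpMap fs S.f j n) := by
  have hex := (ShortComplex.ShortExact.moduleCat_exact_iff_function_exact _).mp
    ((kSC_shortExact S hS (pw fs n)).homology_exact₁ (j - 1) j (by simp))
  have hz : IsZero ((koszulCx S.X₃ (pw fs n)).homology (j - 1)) := by
    apply HomologicalComplex.ExactAt.isZero_homology
    apply HomologicalComplex.ExactAt.of_isZero
    apply isZero_X_of_lt
    simp only [pw, List.length_map]
    omega
  have hsub : Subsingleton ((koszulCx S.X₃ (pw fs n)).homology (j - 1)) :=
    ModuleCat.subsingleton_of_isZero hz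
  change Function.Injective (HomologicalComplex.homologyMap (kSC S (pw fs n)).f j).hom
  rw [injective_iff_map_eq_zero]
  intro x hx
  obtain ⟨a, rfl⟩ := (hex x).1 hx
  have ha : a = 0 := @Subsingleton.elim _ hsub _ _
  rw [ha]
  exact map_zero _

include hS in
lemma hlMap_injective_bottom (j : ℤ) (hj : j = -(fs.length : ℤ)) :
    Function.Injective (hlMap fs S.f j) :=
  dlim_map_injective _ _ (fun n => hpMap_injective_bottom fs S hS j hj n)

end LES

/-- the direct-limit Koszul cohomology as a cohomological sequence. -/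
noncomputable def Hseq (fs : List A) : CohSeq A where
  obj q M := koszulHLim fs M q
  grp q M := inferInstance
  map q {M N} g := (hlMap fs g ((q : ℤ) - fs.length)).toAddMonoidHom
  les S hS := by
    refine ⟨fun q => (hlδ fs S hS ((q : ℤ) - fs.length) (((q + 1 : ℕ) : ℤ) - fs.length)
      (by push_cast; ring)).toAddMonoidHom, ?_, ?_, ?_, ?_⟩
    · exact hlMap_injective_bottom fs S hS _ (by simp)
    · intro q
      exact hl_exact₂ fs S hS _
    · intro q
      exact hl_exact₃ fs S hS _ _ _
    · intro q
      exact hl_exact₁ fs S hS _ _ _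

end Groth.Agent.H8.CK
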