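import Groth.Agent.Lib.Lead.Cech.CompareGen
import Groth.Agent.Lib.Lead.Cech.TopH0

/-! # Čech complexes along a functor commuting with the relevant products: isomorphism -/

universe u
open CategoryTheory Limits Opposite

namespace Groth.Agent.H8.CK

open Groth.Agent.LD.CH

variable {C₁ C₂ : Type u} [Category.{u} C₁] [Category.{u} C₂] [HasFiniteProducts C₁]
  [HasFiniteProducts C₂] {ι : Type u} (Φ : C₁ ⥤ C₂)
  (P : C₂ᵒᵖ ⥤ AddCommGrpCat.{u}) (V : ι → C₁) (W : ι → C₂)
  (e : ∀ (n : ℕ) (a : Fin (n+1) → ι), Φ.obj (∏ᶜ (V ∘ a)) ≅ ∏ᶜ (W ∘ a))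
  (he : ∀ (n : ℕ) (a : Fin (n+2) → ι) (j : Fin (n+2)),
    Φ.map (face V a j) ≫ (e n (a ∘ j.succAbove)).hom = (e (n+1) a).hom ≫ face W a j)

lemma gcmp_add (n : ℕ) (x y : (K W P).X n) :
    gcmp Φ P V W e n (x + y) = gcmp Φ P V W e n x + gcmp Φ P V W e n y := by
  apply coch_ext
  intro a
  rw [coch_gcmp, map_add, map_add, Pi.add_apply, Pi.add_apply, coch_gcmp, coch_gcmp, map_add]

/-- the comparison in each degree as an additive equivalence. -/
noncomputable def gcmpEquiv (n : ℕ) : (K W P).X n ≃+ (K V (Φ.op ⋙ P)).X n where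
  toFun := gcmp Φ P V W e n
  invFun := gcmpInv Φ P V W e n
  left_inv := gcmpInv_gcmp Φ P V W e n
  right_inv := gcmp_gcmpInv Φ P V W e n
  map_add' := gcmp_add Φ P V W e n

include he in
/-- the comparison isomorphism of Čech complexes. -/
noncomputable def gcmpIso : K W P ≅ K V (Φ.op ⋙ P) :=
  HomologicalComplex.Hom.isoOfComponents
    (fun n => (gcmpEquiv Φ P V W e n).toAddCommGrpIso) (by
      intro i j hij
      have hj : i + 1 = j := hij
      subst hj
      ext x
      exact (gcmp_d Φ P V W e he i x).symm)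

end Groth.Agent.H8.CK
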