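import Groth.Agent.Lib.Helper8.CK.Geo
import Groth.Agent.Lib.Lead.SC.Restrict

/-! # Cohomology of the union of affine basic opens -/

universe u
open CategoryTheory Limits Opposite TopologicalSpace AlgebraicGeometry

namespace Groth.Agent.H8.CK

open Groth.Agent.LD Groth.Agent.LD.CH CohIII

variable (X : Scheme.{u}) (fs : List Γ(X, ⊤)) (F : X.Modules)

lemma isAffineOpen_inf_basicOpen {V : X.Opens} (hV : IsAffineOpen V) (g : Γ(X, ⊤)) :
    IsAffineOpen (V ⊓ X.basicOpen g) := by
  rw [← Scheme.basicOpen_res X g (homOfLE (le_top : V ≤ ⊤)).op]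
  exact hV.basicOpen _

lemma isAffineOpen_iInf_covX (haff : ∀ i : Fin fs.length, IsAffineOpen (X.basicOpen (fs.get i))) :
    ∀ (n : ℕ) (a : Fin (n+1) → ULift.{u} (Fin fs.length)),
      IsAffineOpen (⨅ k, covX X fs (a k)) := by
  intro n
  induction n with
  | zero =>
    intro a
    have h : (⨅ k, covX X fs (a k)) = covX X fs (a 0) := by
      apply le_antisymm (iInf_le _ 0)
      refine le_iInf fun k => ?_
      have hk : k = 0 := Fin.ext (by omega)
      rw [hk]
    rw [h]
    exact haff _
  | succ n ih =>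
    intro a
    have h : (⨅ k, covX X fs (a k)) =
        (⨅ k : Fin (n+1), covX X fs (a k.succ)) ⊓ X.basicOpen (fs.get (a 0).down) := by
      apply le_antisymm
      · exact le_inf (le_iInf fun k => iInf_le _ k.succ) (iInf_le _ 0)
      · refine le_iInf fun k => ?_
        refine Fin.cases ?_ (fun k => ?_) k
        · exact inf_le_right
        · exact inf_le_left.trans (iInf_le _ k)
    rw [h]
    exact isAffineOpen_inf_basicOpen X (ih _) _

lemma iSup_covX : iSup (covX X fs) = ⨆ i : Fin fs.length, X.basicOpen (fs.get i) := by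
  apply le_antisymm
  · exact iSup_le fun i => le_iSup (fun i : Fin fs.length => X.basicOpen (fs.get i)) i.down
  · exact iSup_le fun i => le_iSup (covX X fs) ⟨i⟩

variable [CompactSpace X] [QuasiSeparatedSpace X] [F.IsQuasicoherent]

/-- **cohomology of the union of affine basic opens is direct-limit Koszul cohomology.** -/
theorem nonempty_HHon_equiv
    (haff : ∀ i : Fin fs.length, IsAffineOpen (X.basicOpen (fs.get i))) (q : ℕ) :
    Nonempty (Coh.HHon X F (⨆ i : Fin fs.length, X.basicOpen (fs.get i)) (q + 1) ≃+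
      koszulHLim fs (secMod X F) (q + 2)) := by
  obtain ⟨e1⟩ := SC.HH_restrict_equiv (⨆ i : Fin fs.length, X.basicOpen (fs.get i)).ι F (q + 1)
  have h1 : (⨆ i : Fin fs.length, X.basicOpen (fs.get i)).ι.opensRange = iSup (covX X fs) := by
    rw [Scheme.Opens.opensRange_ι, iSup_covX]
  obtain ⟨e2⟩ := leray_scheme (covX X fs) (isAffineOpen_iInf_covX X fs haff) F (q + 1)
  obtain ⟨e3⟩ := nonempty_cechH_equiv X fs F q
  exact ⟨e1.trans ((extCongr h1 (Coh.toAb F) (q + 1)).trans (e2.symm.trans e3))⟩

end Groth.Agent.H8.CK
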