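import Groth.Agent.Lib.Helper8.CK.LocCoh

/-! # Local cohomology of `M~` on `Spec A` is direct-limit Koszul cohomology -/

universe u
open CategoryTheory Limits Opposite TopologicalSpace AlgebraicGeometry Abelian

namespace Groth.Agent.H8.CK

open Groth.Agent.LD Groth.Agent.LD.CH CohIII

section affine

variable (A : Type u) [CommRing A] (fs : List A)

lemma puncturedOpen_eq :
    LocCoh.puncturedOpen A (Ideal.span {a | a ∈ fs}) = iSup (cov (CommRingCat.of A) fs) := by
  apply Opens.ext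
  ext x
  rw [Opens.coe_iSup, Set.mem_iUnion]
  have key : ∀ y : PrimeSpectrum A,
      y ∈ (PrimeSpectrum.zeroLocus (R := A) ((Ideal.span {a | a ∈ fs} : Ideal A) : Set A))ᶜ ↔
        ∃ i : ULift.{u} (Fin fs.length), fs.get i.down ∉ y.asIdeal := by
    intro y
    rw [Set.mem_compl_iff, PrimeSpectrum.zeroLocus_span, PrimeSpectrum.mem_zeroLocus,
      Set.not_subset]
    constructor
    · rintro ⟨a, ha, hax⟩
      obtain ⟨i, rfl⟩ := List.get_of_mem ha
      exact ⟨⟨i⟩, hax⟩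
    · rintro ⟨i, hi⟩
      exact ⟨fs.get i.down, List.get_mem _ _, hi⟩
  exact key x

lemma isAffineOpen_iInf_cov (R : CommRingCat.{u}) (gs : List R) (n : ℕ)
    (a : Fin (n+1) → ULift.{u} (Fin gs.length)) :
    IsAffineOpen (⨅ k, cov R gs (a k)) := by
  rw [← prod_eq_iInf (X := (Spec R).toTopCat)]
  exact isAffineOpen_prod_cov R gs a

variable (R : CommRingCat.{u}) (gs : List R) (M : ModuleCat.{u} R)

theorem nonempty_koszulHLim_equiv_HZ (i : ℕ) :
    Nonempty (koszulHLim gs M i ≃+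
      LocCohZ.HZM (Spec R) (tilde M) i (iSup (cov R gs))) := by
  have hle : iSup (cov R gs) ≤ (⊤ : (Spec R).Opens) := le_top
  have hvan : ∀ p : ℕ, Subsingleton
      (CohTop.HU (X := (Spec R).toTopCat) (Coh.toAb (tilde M)) (p + 1) ⊤) := fun p =>
    SC.subsingleton_ext_of_isAffineOpen (tilde M) p ⊤ (isAffineOpen_top _)
  rcases i with _ | _ | p
  · obtain ⟨e⟩ := (KC_resTop_tilde R gs M).1
    exact ⟨((LocCohZ.sect0Equiv (X := (Spec R).toTopCat) (Coh.toAb (tilde M)) hle).trans e).symm⟩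
  · obtain ⟨e⟩ := (KC_resTop_tilde R gs M).2
    obtain ⟨e'⟩ := nonempty_HZ_one (X := (Spec R).toTopCat) hle (Coh.toAb (tilde M)) (hvan 0)
    exact ⟨(e'.trans e).symm⟩
  · obtain ⟨e⟩ := nonempty_HZ_succ (X := (Spec R).toTopCat) hle (Coh.toAb (tilde M)) p
      (hvan p) (hvan (p + 1))
    obtain ⟨e2⟩ := leray_scheme (cov R gs) (isAffineOpen_iInf_cov R gs) (tilde M) (p + 1)
    obtain ⟨e3⟩ := nonempty_cech_equiv_koszulHLim R gs M p
    exact ⟨e3.symm.trans (e2.trans e)⟩

end affine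

end Groth.Agent.H8.CK
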