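import Groth.Agent.Lib.Helper8.CK.KLC
import Groth.Agent.Lib.Helper8.CK.LocCohAff
import Groth.Agent.Lib.Helper8.CK.GeoAff

/-! # Cohomology of the punctured spectrum is local cohomology -/

universe u
open CategoryTheory Limits Opposite TopologicalSpace AlgebraicGeometry

namespace Groth.Agent.H8.CK

open Groth.Agent.LD Groth.Agent.LD.CH CohIII

variable (A : Type u) [CommRing A]

/-- cohomology of `M~` on the union of the `D(f_i)`, in positive degrees. -/
theorem nonempty_HH_punctured_equiv_koszulHLim (fs : List A) (M : ModuleCat.{u} A) (q : ℕ) :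
    Nonempty (Coh.HH (↑(LocCoh.puncturedOpen A (Ideal.span {a | a ∈ fs})))
      ((tilde (R := CommRingCat.of A) M).restrict
        (LocCoh.puncturedOpen A (Ideal.span {a | a ∈ fs})).ι) (q + 1) ≃+
      koszulHLim fs M (q + 2)) := by
  obtain ⟨e1⟩ := SC.HH_restrict_equiv (LocCoh.puncturedOpen A (Ideal.span {a | a ∈ fs})).ι
    (tilde (R := CommRingCat.of A) M) (q + 1)
  have h1 : (LocCoh.puncturedOpen A (Ideal.span {a | a ∈ fs})).ι.opensRange =
      iSup (cov (CommRingCat.of A) fs) := by
    rw [Scheme.Opens.opensRange_ι, puncturedOpen_eq]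
  obtain ⟨e2⟩ := leray_scheme (cov (CommRingCat.of A) fs)
    (isAffineOpen_iInf_cov (CommRingCat.of A) fs) (tilde (R := CommRingCat.of A) M) (q + 1)
  obtain ⟨e3⟩ := nonempty_cech_equiv_koszulHLim (CommRingCat.of A) fs M q
  exact ⟨e1.trans ((extCongr h1 (Coh.toAb (tilde (R := CommRingCat.of A) M)) (q + 1)).trans
    (e2.symm.trans e3))⟩

lemma exists_list_span_eq [IsNoetherianRing A] (I : Ideal A) :
    ∃ fs : List A, I = Ideal.span {a | a ∈ fs} := by
  obtain ⟨s, hs⟩ := (isNoetherianRing_iff_ideal_fg A).1 inferInstance I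
  refine ⟨s.toList, ?_⟩
  rw [← hs]
  congr 1
  ext a
  simp

/-- **cohomology of the punctured spectrum is local cohomology** (Noetherian ring). -/
theorem nonempty_HH_punctured_equiv_lc [IsNoetherianRing A] (I : Ideal A) (M : ModuleCat.{u} A)
    (q : ℕ) :
    Nonempty (Coh.HH (↑(LocCoh.puncturedOpen A I))
      ((tilde (R := CommRingCat.of A) M).restrict (LocCoh.puncturedOpen A I).ι) (q + 1) ≃+
      (localCohomology I (q + 2)).obj M) := by
  obtain ⟨fs, rfl⟩ := exists_list_span_eq A I
  obtain ⟨e1⟩ := nonempty_HH_punctured_equiv_koszulHLim A fs M q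
  obtain ⟨e2⟩ := nonempty_lc_linearEquiv_koszulHLim fs M (q + 2)
  exact ⟨e1.trans e2.symm.toAddEquiv⟩

end Groth.Agent.H8.CK
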