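import Groth.Agent.Lib.Helper8.CK.LocCohAff
import Groth.Agent.Lib.Lead.LCZ.Flasque

/-! # Flasqueness of `M~` and vanishing of direct-limit Koszul cohomology -/

universe u
open CategoryTheory Limits Opposite TopologicalSpace AlgebraicGeometry Abelian

namespace Groth.Agent.H8.CK

open Groth.Agent.LD Groth.Agent.LD.CH CohIII

section

variable (A : Type u) [CommRing A]

lemma exists_list_eq_iSup_cov [NoetherianSpace (PrimeSpectrum A)]
    (U : (Spec (CommRingCat.of A)).Opens) :
    ∃ fs : List A, U = iSup (cov (CommRingCat.of A) fs) := by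
  let U' : Opens (PrimeSpectrum A) := U
  have hc : IsCompact (U' : Set (PrimeSpectrum A)) := NoetherianSpace.isCompact _
  obtain ⟨t, ht⟩ := PrimeSpectrum.isCompact_isOpen_iff.1 ⟨hc, U'.isOpen⟩
  refine ⟨t.toList, ?_⟩
  rw [← puncturedOpen_eq]
  apply Opens.ext
  change (U' : Set (PrimeSpectrum A)) =
    (PrimeSpectrum.zeroLocus (R := A) ((Ideal.span {a | a ∈ t.toList} : Ideal A) : Set A))ᶜ
  rw [PrimeSpectrum.zeroLocus_span, ← ht]
  congr 2
  ext a
  simp

variable (R : CommRingCat.{u}) (M : ModuleCat.{u} R)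

/-- flasque ⇒ vanishing of all higher direct-limit Koszul cohomology. -/
theorem subsingleton_koszulHLim_of_isFlasque
    [TopCat.Sheaf.IsFlasque (X := (Spec R).toTopCat) (Coh.toAb (tilde M))] (gs : List R) (k : ℕ) :
    Subsingleton (koszulHLim gs M (k + 1)) := by
  obtain ⟨e⟩ := nonempty_koszulHLim_equiv_HZ R gs M (k + 1)
  have h1 := LCZ.subsingleton_HZ_of_isFlasque (X := (Spec R).toTopCat) (Coh.toAb (tilde M))
    (le_top : iSup (cov R gs) ≤ ⊤) k
  exact @Equiv.subsingleton _ _ e.toEquiv h1

/-- vanishing of `H¹_lim` ⇒ restriction to `⋃ D(g_i)` is surjective. -/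
theorem surjective_resTop_of_subsingleton (gs : List R) (h : Subsingleton (koszulHLim gs M 1)) :
    Function.Surjective
      (resTop (Y := (Spec R).toTopCat) ((tF R).obj M).obj (iSup (cov R gs))) := by
  obtain ⟨e⟩ := (KC_resTop_tilde R gs M).2
  have hs : Subsingleton (_ ⧸ (resTop (Y := (Spec R).toTopCat) ((tF R).obj M).obj
      (iSup (cov R gs))).range) := e.toEquiv.subsingleton
  intro s
  have h0 : (QuotientAddGroup.mk s : _ ⧸ (resTop (Y := (Spec R).toTopCat) ((tF R).obj M).obj
      (iSup (cov R gs))).range) = 0 := Subsingleton.elim _ _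
  rw [QuotientAddGroup.eq_zero_iff] at h0
  exact h0

/-- a presheaf of abelian groups all of whose restrictions from the whole space are surjective
is flasque. -/
lemma isFlasque_of_surjective_resTop {Y : TopCat.{u}} (P : (Opens Y)ᵒᵖ ⥤ AddCommGrpCat.{u})
    (h : ∀ U : Opens Y, Function.Surjective (resTop P U)) :
    TopCat.Presheaf.IsFlasque P where
  epi {U V} i := by
    rw [AddCommGrpCat.epi_iff_surjective]
    intro s
    obtain ⟨t, ht⟩ := h V.unop s
    refine ⟨P.map (homOfLE (le_top : U.unop ≤ ⊤)).op t, ?_⟩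
    have : (homOfLE (le_top : U.unop ≤ ⊤)).op ≫ i = (homOfLE (le_top : V.unop ≤ ⊤)).op :=
      Subsingleton.elim _ _
    rw [← ht]
    change (P.map _ ≫ P.map i) t = _
    rw [← P.map_comp, this]

end

end Groth.Agent.H8.CK
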