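import Groth.Agent.Lib.Helper8.CK.KLim
import Groth.Agent.Lib.Helper8.CK.CxElt

/-! # Direct-limit Koszul cohomology of a torsion module vanishes in positive degrees -/

open CategoryTheory CategoryTheory.Limits CochainComplex HomologicalComplex
  CochainComplex.HomComplex

universe u

namespace Groth.Agent.H8.CK

open CohIII Groth.Agent.H2.Kos

variable {A : Type u} [CommRing A]

/-- `f` is locally nilpotent on `N`. -/
def LocNil (N : Type*) [AddCommGroup N] [Module A N] (f : A) : Prop :=
  ∀ x : N, ∃ k : ℕ, f ^ k • x = 0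

lemma pow_smul_eq_zero_of_le {N : Type*} [AddCommGroup N] [Module A N] {f : A} {x : N} {k l : ℕ}
    (h : f ^ k • x = 0) (hkl : k ≤ l) : f ^ l • x = 0 := by
  obtain ⟨d, rfl⟩ := Nat.exists_eq_add_of_le hkl
  rw [add_comm, pow_add, mul_smul, h, smul_zero]

lemma locNil_X (N : ModuleCat.{u} A) (f : A) (hf : LocNil N f) :
    ∀ (gs : List A) (j : ℤ), LocNil ((koszulCx N gs).X j) f := by
  intro gs
  induction gs with
  | nil =>
    intro j y
    by_cases hj : j = 0
    · subst hj
      let e : (koszulCx N []).X 0 ≃ₗ[A] N :=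
        (HomologicalComplex.singleObjXSelf (ComplexShape.up ℤ) 0 N).toLinearEquiv
      obtain ⟨k, hk⟩ := hf (e y)
      refine ⟨k, e.injective ?_⟩
      rw [_root_.map_smul, hk, map_zero]
    · exact ⟨0, isZero_elim
        (HomologicalComplex.isZero_single_obj_X (ComplexShape.up ℤ) 0 N j hj) _⟩
  | cons g gs ih =>
    intro j y
    change (mappingCone (g • 𝟙 (koszulCx N gs))).X j at y
    obtain ⟨a, b, hy⟩ : ∃ (a : (koszulCx N gs).X (j + 1)) (b : (koszulCx N gs).X j),
        y = ((mappingCone.inl (g • 𝟙 (koszulCx N gs))).v (j + 1) j (by omega)).hom a +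
          ((mappingCone.inr (g • 𝟙 (koszulCx N gs))).f j).hom b :=
      ⟨_, _, decomp (g • 𝟙 (koszulCx N gs)) j y⟩
    obtain ⟨k1, hk1⟩ := ih (j + 1) a
    obtain ⟨k2, hk2⟩ := ih j b
    refine ⟨k1 + k2, ?_⟩
    change f ^ (k1 + k2) • y = 0
    rw [hy, smul_add, ← _root_.map_smul, ← _root_.map_smul,
      pow_smul_eq_zero_of_le hk1 (Nat.le_add_right k1 k2),
      pow_smul_eq_zero_of_le hk2 (Nat.le_add_left k2 k1), map_zero, map_zero, add_zero]

lemma exists_trans_eq_zero (N : ModuleCat.{u} A) (n : ℕ) :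
    ∀ (fs : List A), (∀ f ∈ fs, LocNil N f) → ∀ (j : ℤ), -(fs.length : ℤ) < j →
      ∀ y : (koszulCx N (pw fs n)).X j, ∃ m, n ≤ m ∧ ∀ m' (_ : m ≤ m') (h' : n ≤ m'),
        ((koszulTrans N n m' h' fs).f j).hom y = 0 := by
  intro fs
  induction fs with
  | nil =>
    intro _ j hj y
    refine ⟨n, le_rfl, fun m' _ h' => ?_⟩
    have hz : IsZero ((koszulCx N (pw [] m')).X j) :=
      HomologicalComplex.isZero_single_obj_X (ComplexShape.up ℤ) 0 N j (by simp at hj; omega)
    exact isZero_elim hz _
  | cons f fs ih =>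
    intro hN j hj y
    have hN' : ∀ g ∈ fs, LocNil N g := fun g hg => hN g (List.mem_cons_of_mem _ hg)
    have hf : LocNil N f := hN f (List.mem_cons_self ..)
    simp only [List.length_cons, Nat.cast_add, Nat.cast_one] at hj
    let φ : koszulCx N (pw fs n) ⟶ koszulCx N (pw fs n) := f ^ n • 𝟙 (koszulCx N (pw fs n))
    have key : ∀ y : (mappingCone φ).X j, ∃ m, n ≤ m ∧ ∀ m' (_ : m ≤ m') (h' : n ≤ m'),
        ((koszulTrans N n m' h' (f :: fs)).f j).hom y = 0 := by
      intro y
      obtain ⟨m1, hm1, h1⟩ := ih hN' (j + 1) (by omega)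
        (((mappingCone.fst φ).1.v j (j + 1) rfl).hom y)
      obtain ⟨k, hk⟩ := locNil_X N f hf (pw fs n) j
        (((mappingCone.snd φ).v j j (add_zero j)).hom y)
      refine ⟨max m1 (n + k), le_trans hm1 (le_max_left _ _), fun m' hm' h' => ?_⟩
      have hy := decomp φ j y
      rw [koszulTrans_cons]
      have h2 : ((f ^ (m' - n) • koszulTrans N n m' h' fs).f j).hom
          (((mappingCone.snd φ).v j j (add_zero j)).hom y) = 0 := by
        change f ^ (m' - n) • ((koszulTrans N n m' h' fs).f j).hom _ = 0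
        rw [← _root_.map_smul, pow_smul_eq_zero_of_le hk, map_zero]
        have := le_trans (le_max_right m1 (n + k)) hm'
        omega
      have e1 := map_inl_apply φ (f ^ m' • 𝟙 (koszulCx N (pw fs m'))) (koszulTrans N n m' h' fs)
        (f ^ (m' - n) • koszulTrans N n m' h' fs) (by
          simp only [φ, Linear.smul_comp, Linear.comp_smul, Category.id_comp, Category.comp_id,
            smul_smul, ← pow_add, Nat.sub_add_cancel h']) j
        (((mappingCone.fst φ).1.v j (j + 1) rfl).hom y)
      have e2 := map_inr_apply φ (f ^ m' • 𝟙 (koszulCx N (pw fs m'))) (koszulTrans N n m' h' fs)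
        (f ^ (m' - n) • koszulTrans N n m' h' fs) (by
          simp only [φ, Linear.smul_comp, Linear.comp_smul, Category.id_comp, Category.comp_id,
            smul_smul, ← pow_add, Nat.sub_add_cancel h']) j
        (((mappingCone.snd φ).v j j (add_zero j)).hom y)
      rw [h1 m' (le_trans (le_max_left _ _) hm') h', map_zero] at e1
      rw [h2, map_zero] at e2
      refine (congrArg _ hy).trans ?_
      refine (map_add _ _ _).trans ?_
      exact (congrArg₂ (· + ·) e1 e2).trans (add_zero 0)
    exact key y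

theorem subsingleton_HL_of_locNil (N : ModuleCat.{u} A) (fs : List A)
    (hN : ∀ f ∈ fs, LocNil N f) (j : ℤ) (hj : -(fs.length : ℤ) < j) :
    Subsingleton (HL fs N j) := by
  apply dlim_subsingleton_of_eventually_zero
  intro n x
  -- bound for all cycles?  we need a uniform `m` for the class: choose a representative
  obtain ⟨z, rfl⟩ := homologyπ_surjective (koszulCx N (pw fs n)) j x
  obtain ⟨m, hm, h⟩ := exists_trans_eq_zero N n fs hN j hj ((HomologicalComplex.iCycles (koszulCx N (pw fs n)) j).hom z)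
  refine ⟨m, hm, ?_⟩
  change (homologyMap (koszulTrans N n m hm fs) j).hom _ = 0
  rw [homologyMap_π_apply]
  have hz : (cyclesMap (koszulTrans N n m hm fs) j).hom z = 0 := by
    apply iCycles_injective _ j
    rw [iCycles_cyclesMap_apply, map_zero]
    exact h m le_rfl hm
  rw [hz, map_zero]

end Groth.Agent.H8.CK
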