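import Groth.Agent.Lib.Helper8.CK.KLim
import Groth.Agent.Lib.Helper8.CK.CxElt
import Groth.Agent.Lib.Helper8.CK.KTors

/-! # The bottom direct-limit Koszul cohomology is the torsion submodule -/

open CategoryTheory CategoryTheory.Limits CochainComplex HomologicalComplex
  CochainComplex.HomComplex

universe u

namespace Groth.Agent.H8.CK

open CohIII Groth.Agent.H2.Kos

variable {A : Type u} [CommRing A]

/-- the inclusion of `M` as the bottom term of the Koszul complex. -/
noncomputable def toBot (M : ModuleCat.{u} A) :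
    ∀ (gs : List A) (k : ℤ), k = -(gs.length : ℤ) → (M ⟶ (koszulCx M gs).X k)
  | [], k, hk =>
    (HomologicalComplex.singleObjXIsoOfEq (ComplexShape.up ℤ) 0 M k (by simpa using hk)).inv
  | g :: gs, k, hk =>
    toBot M gs (k + 1) (by simp only [List.length_cons] at hk; push_cast at hk; omega) ≫
      (mappingCone.inl (g • 𝟙 (koszulCx M gs))).v (k + 1) k (by omega)

/-- the projection of the bottom term of the Koszul complex onto `M`. -/
noncomputable def fromBot (M : ModuleCat.{u} A) :
    ∀ (gs : List A) (k : ℤ), k = -(gs.length : ℤ) → ((koszulCx M gs).X k ⟶ M)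
  | [], k, hk =>
    (HomologicalComplex.singleObjXIsoOfEq (ComplexShape.up ℤ) 0 M k (by simpa using hk)).hom
  | g :: gs, k, hk =>
    (mappingCone.fst (g • 𝟙 (koszulCx M gs))).1.v k (k + 1) rfl ≫
      fromBot M gs (k + 1) (by simp only [List.length_cons] at hk; push_cast at hk; omega)

lemma toBot_cons (M : ModuleCat.{u} A) (g : A) (gs : List A) (k : ℤ)
    (hk : k = -((g :: gs).length : ℤ)) (hk' : k + 1 = -(gs.length : ℤ)) :
    toBot M (g :: gs) k hk = toBot M gs (k + 1) hk' ≫
      (mappingCone.inl (g • 𝟙 (koszulCx M gs))).v (k + 1) k (by omega) := rfl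

lemma fromBot_cons (M : ModuleCat.{u} A) (g : A) (gs : List A) (k : ℤ)
    (hk : k = -((g :: gs).length : ℤ)) (hk' : k + 1 = -(gs.length : ℤ)) :
    fromBot M (g :: gs) k hk = (mappingCone.fst (g • 𝟙 (koszulCx M gs))).1.v k (k + 1) rfl ≫
      fromBot M gs (k + 1) hk' := rfl

lemma toBot_fromBot (M : ModuleCat.{u} A) :
    ∀ (gs : List A) (k : ℤ) (hk : k = -(gs.length : ℤ)),
      toBot M gs k hk ≫ fromBot M gs k hk = 𝟙 M := by
  intro gs
  induction gs with
  | nil => intro k hk; exact Iso.inv_hom_id _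
  | cons g gs ih =>
    intro k hk
    have hk' : k + 1 = -(gs.length : ℤ) := by
      simp only [List.length_cons] at hk; push_cast at hk; omega
    change (toBot M gs (k + 1) hk' ≫
      (mappingCone.inl (g • 𝟙 (koszulCx M gs))).v (k + 1) k (by omega)) ≫
      ((mappingCone.fst (g • 𝟙 (koszulCx M gs))).1.v k (k + 1) rfl ≫
        fromBot M gs (k + 1) hk') = 𝟙 M
    rw [Category.assoc, mappingCone.inl_v_fst_v_assoc, ih]

lemma fromBot_toBot (M : ModuleCat.{u} A) :
    ∀ (gs : List A) (k : ℤ) (hk : k = -(gs.length : ℤ)),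
      fromBot M gs k hk ≫ toBot M gs k hk = 𝟙 _ := by
  intro gs
  induction gs with
  | nil => intro k hk; exact Iso.hom_inv_id _
  | cons g gs ih =>
    intro k hk
    have hk' : k + 1 = -(gs.length : ℤ) := by
      simp only [List.length_cons] at hk; push_cast at hk; omega
    change ((mappingCone.fst (g • 𝟙 (koszulCx M gs))).1.v k (k + 1) rfl ≫
        fromBot M gs (k + 1) hk') ≫ (toBot M gs (k + 1) hk' ≫
      (mappingCone.inl (g • 𝟙 (koszulCx M gs))).v (k + 1) k (by omega)) =
      𝟙 ((mappingCone (g • 𝟙 (koszulCx M gs))).X k)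
    rw [Category.assoc, reassoc_of% (ih (k + 1) hk')]
    have hz : (mappingCone.snd (g • 𝟙 (koszulCx M gs))).v k k (add_zero k) = 0 :=
      (isZero_X_of_lt M gs k (by omega)).eq_of_tgt _ _
    have := mappingCone.id_X (g • 𝟙 (koszulCx M gs)) k (k + 1) rfl
    rw [hz, zero_comp, add_zero] at this
    exact this

lemma toBot_injective (M : ModuleCat.{u} A) (gs : List A) (k : ℤ) (hk : k = -(gs.length : ℤ)) :
    Function.Injective (toBot M gs k hk).hom := by
  intro a b hab
  have := congrArg (fromBot M gs k hk).hom hab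
  have h1 : ∀ t, (fromBot M gs k hk).hom ((toBot M gs k hk).hom t) = t := fun t =>
    congrArg (fun f => f.hom t) (toBot_fromBot M gs k hk)
  rwa [h1, h1] at this

lemma toBot_fromBot_apply (M : ModuleCat.{u} A) (gs : List A) (k : ℤ) (hk : k = -(gs.length : ℤ))
    (t : M) : (fromBot M gs k hk).hom ((toBot M gs k hk).hom t) = t :=
  congrArg (fun f => f.hom t) (toBot_fromBot M gs k hk)

lemma fromBot_toBot_apply (M : ModuleCat.{u} A) (gs : List A) (k : ℤ) (hk : k = -(gs.length : ℤ))
    (y : (koszulCx M gs).X k) : (toBot M gs k hk).hom ((fromBot M gs k hk).hom y) = y :=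
  congrArg (fun f => f.hom y) (fromBot_toBot M gs k hk)

/-- the bottom cocycle condition. -/
lemma d_toBot_eq_zero_iff (M : ModuleCat.{u} A) :
    ∀ (gs : List A) (k : ℤ) (hk : k = -(gs.length : ℤ)) (m : M),
      ((koszulCx M gs).d k (k + 1)).hom ((toBot M gs k hk).hom m) = 0 ↔ ∀ g ∈ gs, g • m = 0 := by
  intro gs
  induction gs with
  | nil =>
    intro k hk m
    have hz : IsZero ((koszulCx M []).X (k + 1)) :=
      HomologicalComplex.isZero_single_obj_X (ComplexShape.up ℤ) 0 M (k + 1)
        (by simp at hk; omega)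
    constructor
    · intro _ g hg
      simp at hg
    · intro _
      exact isZero_elim hz _
  | cons g gs ih =>
    intro k hk m
    have hk' : k + 1 = -(gs.length : ℤ) := by
      simp only [List.length_cons] at hk; push_cast at hk; omega
    set φ : koszulCx M gs ⟶ koszulCx M gs := g • 𝟙 (koszulCx M gs) with hφ
    set y := (toBot M gs (k + 1) hk').hom m with hy
    have hd : ((koszulCx M (g :: gs)).d k (k + 1)).hom ((toBot M (g :: gs) k hk).hom m) =
        ((mappingCone.inr φ).f (k + 1)).hom (g • y) -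
          ((mappingCone.inl φ).v (k + 1 + 1) (k + 1) (by omega)).hom
            (((koszulCx M gs).d (k + 1) (k + 1 + 1)).hom y) := by
      rw [toBot_cons M g gs k hk hk']
      change ((mappingCone φ).d k (k + 1)).hom
        (((mappingCone.inl φ).v (k + 1) k (by omega)).hom y) = _
      rw [d_inl_apply φ (k + 1) k (k + 1 + 1) (by omega) (by omega)]
      rfl
    rw [hd]
    constructor
    · intro h
      have h1 := congrArg ((mappingCone.snd φ).v (k + 1) (k + 1) (add_zero _)).hom h
      rw [map_sub, snd_inr_apply, snd_inl_apply, sub_zero] at h1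
      replace h1 := h1.trans (map_zero _)
      have h2 := congrArg ((mappingCone.fst φ).1.v (k + 1) (k + 1 + 1) rfl).hom h
      have e1 : ((mappingCone.fst φ).1.v (k + 1) (k + 1 + 1) rfl).hom
          (((mappingCone.inr φ).f (k + 1)).hom (g • y)) = 0 :=
        congrArg (fun f => f.hom (g • y)) (mappingCone.inr_f_fst_v φ (k + 1) (k + 1 + 1) rfl)
      have e2 : ∀ t, ((mappingCone.fst φ).1.v (k + 1) (k + 1 + 1) rfl).hom
          (((mappingCone.inl φ).v (k + 1 + 1) (k + 1) (by omega)).hom t) = t := fun t =>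
        congrArg (fun f => f.hom t) (mappingCone.inl_v_fst_v φ (k + 1 + 1) (k + 1) rfl)
      rw [map_sub, e1, e2, zero_sub] at h2
      replace h2 := neg_eq_zero.mp (h2.trans (map_zero _))
      intro g' hg'
      rcases List.mem_cons.mp hg' with rfl | hg''
      · apply toBot_injective M gs (k + 1) hk'
        rw [_root_.map_smul, map_zero]
        exact h1
      · exact (ih (k + 1) hk' m).1 h2 g' hg''
    · intro h
      have h1 : g • y = 0 := by
        rw [hy, ← _root_.map_smul, h g (List.mem_cons_self ..), map_zero]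
      have h2 := (ih (k + 1) hk' m).2 (fun g' hg' => h g' (List.mem_cons_of_mem _ hg'))
      rw [h1, h2, map_zero, map_zero]
      exact sub_zero 0

lemma pw_length (fs : List A) (n : ℕ) : (pw fs n).length = fs.length := List.length_map _

/-- compatibility of the bottom inclusion with the transition maps. -/
lemma toBot_trans (M : ModuleCat.{u} A) (n m : ℕ) (h : n ≤ m) :
    ∀ (fs : List A) (k : ℤ) (hkn : k = -((pw fs n).length : ℤ)) (hkm : k = -((pw fs m).length : ℤ)),
      toBot M (pw fs n) k hkn ≫ (koszulTrans M n m h fs).f k = toBot M (pw fs m) k hkm := by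
  intro fs
  induction fs with
  | nil =>
    intro k hkn hkm
    exact Category.comp_id _
  | cons f fs ih =>
    intro k hkn hkm
    have hk' : k + 1 = -((pw fs n).length : ℤ) := by
      simp only [pw, List.map_cons, List.length_cons, List.length_map] at hkn ⊢
      push_cast at hkn; omega
    have hk'' : k + 1 = -((pw fs m).length : ℤ) := by
      simp only [pw, List.map_cons, List.length_cons, List.length_map] at hkm ⊢
      push_cast at hkm; omega
    rw [koszulTrans_cons]
    change (toBot M (pw fs n) (k + 1) hk' ≫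
      (mappingCone.inl (f ^ n • 𝟙 (koszulCx M (pw fs n)))).v (k + 1) k (by omega)) ≫
      (mappingCone.map (f ^ n • 𝟙 (koszulCx M (pw fs n))) (f ^ m • 𝟙 (koszulCx M (pw fs m)))
        (koszulTrans M n m h fs) (f ^ (m - n) • koszulTrans M n m h fs) _).f k =
      toBot M (pw fs m) (k + 1) hk'' ≫
        (mappingCone.inl (f ^ m • 𝟙 (koszulCx M (pw fs m)))).v (k + 1) k (by omega)
    rw [Category.assoc, inl_v_map_f, ← Category.assoc, ih (k + 1) hk' hk'']

lemma fromBot_trans (M : ModuleCat.{u} A) (n m : ℕ) (h : n ≤ m) (fs : List A) (k : ℤ)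
    (hkn : k = -((pw fs n).length : ℤ)) (hkm : k = -((pw fs m).length : ℤ)) :
    (koszulTrans M n m h fs).f k ≫ fromBot M (pw fs m) k hkm = fromBot M (pw fs n) k hkn := by
  have h1 := toBot_trans M n m h fs k hkn hkm
  calc (koszulTrans M n m h fs).f k ≫ fromBot M (pw fs m) k hkm
      = (fromBot M (pw fs n) k hkn ≫ toBot M (pw fs n) k hkn) ≫
          (koszulTrans M n m h fs).f k ≫ fromBot M (pw fs m) k hkm := by
        rw [fromBot_toBot, Category.id_comp]
    _ = fromBot M (pw fs n) k hkn ≫ (toBot M (pw fs n) k hkn ≫ (koszulTrans M n m h fs).f k) ≫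
          fromBot M (pw fs m) k hkm := by simp only [Category.assoc]
    _ = fromBot M (pw fs n) k hkn := by
        rw [h1, toBot_fromBot, Category.comp_id]

/-- the submodule of elements killed by a power of every element of the list. -/
def torsSub (fs : List A) (M : Type*) [AddCommGroup M] [Module A M] : Submodule A M where
  carrier := {m | ∀ f ∈ fs, ∃ k : ℕ, f ^ k • m = 0}
  add_mem' := by
    intro a b ha hb f hf
    obtain ⟨k1, h1⟩ := ha f hf
    obtain ⟨k2, h2⟩ := hb f hf
    refine ⟨k1 + k2, ?_⟩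
    rw [smul_add, pow_smul_eq_zero_of_le h1 (Nat.le_add_right _ _),
      pow_smul_eq_zero_of_le h2 (Nat.le_add_left _ _), add_zero]
  zero_mem' := fun f _ => ⟨0, smul_zero _⟩
  smul_mem' := by
    intro c a ha f hf
    obtain ⟨k, hk⟩ := ha f hf
    exact ⟨k, by rw [smul_comm, hk, smul_zero]⟩

lemma mem_torsSub {fs : List A} {M : Type*} [AddCommGroup M] [Module A M] {m : M} :
    m ∈ torsSub fs M ↔ ∀ f ∈ fs, ∃ k : ℕ, f ^ k • m = 0 := Iff.rfl

lemma exists_uniform_pow {fs : List A} {M : Type*} [AddCommGroup M] [Module A M] {m : M}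
    (hm : m ∈ torsSub fs M) : ∃ n : ℕ, ∀ f ∈ fs, f ^ n • m = 0 := by
  induction fs with
  | nil => exact ⟨0, fun f hf => by simp at hf⟩
  | cons g gs ih =>
    obtain ⟨n1, h1⟩ := ih (fun f hf => hm f (List.mem_cons_of_mem _ hf))
    obtain ⟨k, hk⟩ := hm g (List.mem_cons_self ..)
    refine ⟨n1 + k, fun f hf => ?_⟩
    rcases List.mem_cons.mp hf with rfl | hf'
    · exact pow_smul_eq_zero_of_le hk (Nat.le_add_left _ _)
    · exact pow_smul_eq_zero_of_le (h1 f hf') (Nat.le_add_right _ _)

section bottom

variable (fs : List A) (M : ModuleCat.{u} A) (j : ℤ) (hj : j = -(fs.length : ℤ))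

include hj in
lemma hjn (n : ℕ) : j = -((pw fs n).length : ℤ) := by rw [pw_length]; exact hj

include hj in
lemma d_prev_eq_zero (n : ℕ) : (koszulCx M (pw fs n)).d (j - 1) j = 0 :=
  (isZero_X_of_lt M (pw fs n) (j - 1) (by rw [pw_length]; omega)).eq_of_src _ _

/-- the level-`n` comparison map from the bottom Koszul cohomology to `M`. -/
noncomputable def botMap (n : ℕ) : HP fs M j n →ₗ[A] M :=
  (((koszulCx M (pw fs n)).isoHomologyπ (j - 1) j (by simp) (d_prev_eq_zero fs M j hj n)).inv ≫
    (koszulCx M (pw fs n)).iCycles j ≫ fromBot M (pw fs n) j (hjn fs j hj n)).hom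

lemma botMap_π (n : ℕ) (z : (koszulCx M (pw fs n)).cycles j) :
    botMap fs M j hj n (((koszulCx M (pw fs n)).homologyπ j).hom z) =
      (fromBot M (pw fs n) j (hjn fs j hj n)).hom (((koszulCx M (pw fs n)).iCycles j).hom z) := by
  have := congrArg (fun f => f.hom z) ((koszulCx M (pw fs n)).isoHomologyπ_hom_inv_id (j - 1) j
    (by simp) (d_prev_eq_zero fs M j hj n))
  change (fromBot M (pw fs n) j _).hom (((koszulCx M (pw fs n)).iCycles j).hom
    ((((koszulCx M (pw fs n)).isoHomologyπ (j - 1) j (by simp)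
      (d_prev_eq_zero fs M j hj n)).inv).hom (((koszulCx M (pw fs n)).homologyπ j).hom z))) = _
  congr 2

lemma botMap_injective (n : ℕ) : Function.Injective (botMap fs M j hj n) := by
  intro a b hab
  obtain ⟨za, rfl⟩ := homologyπ_surjective _ j a
  obtain ⟨zb, rfl⟩ := homologyπ_surjective _ j b
  rw [botMap_π, botMap_π] at hab
  have h1 := congrArg (toBot M (pw fs n) j (hjn fs j hj n)).hom hab
  rw [fromBot_toBot_apply, fromBot_toBot_apply] at h1
  rw [iCycles_injective _ j h1]

lemma botMap_tr (n m : ℕ) (h : n ≤ m) (x : HP fs M j n) :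
    botMap fs M j hj m (tr fs M j n m h x) = botMap fs M j hj n x := by
  obtain ⟨z, rfl⟩ := homologyπ_surjective _ j x
  change botMap fs M j hj m ((homologyMap (koszulTrans M n m h fs) j).hom _) = _
  rw [homologyMap_π_apply, botMap_π, botMap_π, iCycles_cyclesMap_apply]
  exact congrArg (fun f => f.hom (((koszulCx M (pw fs n)).iCycles j).hom z))
    (fromBot_trans M n m h fs j (hjn fs j hj n) (hjn fs j hj m))

lemma botMap_mem (n : ℕ) (x : HP fs M j n) : ∀ f ∈ fs, f ^ n • botMap fs M j hj n x = 0 := by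
  obtain ⟨z, rfl⟩ := homologyπ_surjective _ j x
  rw [botMap_π]
  set y := ((koszulCx M (pw fs n)).iCycles j).hom z with hy
  have hd : ((koszulCx M (pw fs n)).d j (j + 1)).hom y = 0 := d_iCycles_apply _ j _ z
  rw [← fromBot_toBot_apply M (pw fs n) j (hjn fs j hj n) y] at hd
  have := (d_toBot_eq_zero_iff M (pw fs n) j (hjn fs j hj n) _).1 hd
  intro f hf
  exact this (f ^ n) (List.mem_map_of_mem hf)

lemma exists_botMap_eq (n : ℕ) (m : M) (hm : ∀ f ∈ fs, f ^ n • m = 0) :
    ∃ x : HP fs M j n, botMap fs M j hj n x = m := by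
  have hd : ((koszulCx M (pw fs n)).d j (j + 1)).hom
      ((toBot M (pw fs n) j (hjn fs j hj n)).hom m) = 0 := by
    rw [d_toBot_eq_zero_iff]
    intro g hg
    obtain ⟨f, hf, rfl⟩ := List.mem_map.mp hg
    exact hm f hf
  obtain ⟨z, hz⟩ := exists_cycle _ j _ hd
  refine ⟨((koszulCx M (pw fs n)).homologyπ j).hom z, ?_⟩
  rw [botMap_π, hz, toBot_fromBot_apply]

/-- the comparison map from the bottom direct-limit Koszul cohomology to `M`. -/
noncomputable def botLim : HL fs M j →ₗ[A] M :=
  Module.DirectLimit.lift A ℕ _ _ (fun n => botMap fs M j hj n)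
    (fun n m h x => botMap_tr fs M j hj n m h x)

lemma botLim_injective : Function.Injective (botLim fs M j hj) :=
  Module.DirectLimit.lift_injective _ _ (fun n => botMap_injective fs M j hj n)

lemma range_botLim : LinearMap.range (botLim fs M j hj) = torsSub fs M := by
  ext m
  constructor
  · rintro ⟨x, rfl⟩
    obtain ⟨n, x, rfl⟩ := Module.DirectLimit.exists_of x
    intro f hf
    refine ⟨n, ?_⟩
    change f ^ n • Module.DirectLimit.lift A ℕ _ _ _ _ _ = 0
    rw [Module.DirectLimit.lift_of]
    exact botMap_mem fs M j hj n x f hf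
  · intro hm
    obtain ⟨n, hn⟩ := exists_uniform_pow hm
    obtain ⟨x, hx⟩ := exists_botMap_eq fs M j hj n m hn
    refine ⟨Module.DirectLimit.of A ℕ _ _ n x, ?_⟩
    change Module.DirectLimit.lift A ℕ _ _ _ _ _ = m
    rw [Module.DirectLimit.lift_of]
    exact hx

/-- **the bottom direct-limit Koszul cohomology is the torsion submodule.** -/
noncomputable def botEquiv : HL fs M j ≃ₗ[A] torsSub fs M :=
  (LinearEquiv.ofInjective (botLim fs M j hj) (botLim_injective fs M j hj)).trans
    (LinearEquiv.ofEq _ _ (range_botLim fs M j hj))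

end bottom

end Groth.Agent.H8.CK
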