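import Groth.Agent.Lib.Helper8.CK.KInj
import Groth.Agent.Lib.Helper8.CK.KBot
import Groth.Agent.Lib.Helper8.LC.LCDelta

/-! # Local cohomology over a Noetherian ring is direct-limit Koszul cohomology -/

universe u
open CategoryTheory Limits CohIII Groth.Agent.H2.Kos HomologicalComplex CochainComplex

namespace Groth.Agent.H8.CK

variable {A : Type u} [CommRing A]

lemma toBot_kmap {M N : ModuleCat.{u} A} (g : M ⟶ N) :
    ∀ (l : List A) (k : ℤ) (hk : k = -(l.length : ℤ)),
      toBot M l k hk ≫ (kmap g l).f k = g ≫ toBot N l k hk := by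
  intro l
  induction l with
  | nil =>
    intro k hk
    have hk0 : k = 0 := by simpa using hk
    subst hk0
    change (HomologicalComplex.singleObjXIsoOfEq (ComplexShape.up ℤ) 0 M 0 rfl).inv ≫
      ((HomologicalComplex.single (ModuleCat.{u} A) (ComplexShape.up ℤ) 0).map g).f 0 =
      g ≫ (HomologicalComplex.singleObjXIsoOfEq (ComplexShape.up ℤ) 0 N 0 rfl).inv
    rw [HomologicalComplex.single_map_f_self]
    simp [HomologicalComplex.singleObjXSelf, HomologicalComplex.singleObjXIsoOfEq]
  | cons f l ih =>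
    intro k hk
    have hk' : k + 1 = -(l.length : ℤ) := by
      simp only [List.length_cons] at hk; push_cast at hk; omega
    rw [kmap_cons]
    change (toBot M l (k + 1) hk' ≫
      (mappingCone.inl (f • 𝟙 (koszulCx M l))).v (k + 1) k (by omega)) ≫
      (mappingCone.map (f • 𝟙 (koszulCx M l)) (f • 𝟙 (koszulCx N l))
        (kmap g l) (kmap g l) _).f k =
      g ≫ toBot N l (k + 1) hk' ≫
        (mappingCone.inl (f • 𝟙 (koszulCx N l))).v (k + 1) k (by omega)
    rw [Category.assoc, inl_v_map_f, ← Category.assoc, ih (k + 1) hk', Category.assoc]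

lemma fromBot_kmap {M N : ModuleCat.{u} A} (g : M ⟶ N) (l : List A) (k : ℤ)
    (hk : k = -(l.length : ℤ)) :
    (kmap g l).f k ≫ fromBot N l k hk = fromBot M l k hk ≫ g := by
  have h1 := toBot_kmap g l k hk
  calc (kmap g l).f k ≫ fromBot N l k hk
      = (fromBot M l k hk ≫ toBot M l k hk) ≫ (kmap g l).f k ≫ fromBot N l k hk := by
        rw [fromBot_toBot, Category.id_comp]
    _ = fromBot M l k hk ≫ (toBot M l k hk ≫ (kmap g l).f k) ≫ fromBot N l k hk := by
        simp only [Category.assoc]
    _ = fromBot M l k hk ≫ g := by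
        rw [h1, Category.assoc, toBot_fromBot, Category.comp_id]

section

variable (fs : List A) {M N : ModuleCat.{u} A} (g : M ⟶ N) (j : ℤ) (hj : j = -(fs.length : ℤ))

lemma botMap_hpMap (n : ℕ) (x : HP fs M j n) :
    botMap fs N j hj n (hpMap fs g j n x) = g.hom (botMap fs M j hj n x) := by
  obtain ⟨z, rfl⟩ := homologyπ_surjective _ j x
  change botMap fs N j hj n ((homologyMap (kmap g (pw fs n)) j).hom _) = _
  rw [homologyMap_π_apply, botMap_π, botMap_π, iCycles_cyclesMap_apply]
  exact congrArg (fun f => f.hom (((koszulCx M (pw fs n)).iCycles j).hom z))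
    (fromBot_kmap g (pw fs n) j (hjn fs j hj n))

lemma botLim_hlMap (y : HL fs M j) :
    botLim fs N j hj (hlMap fs g j y) = g.hom (botLim fs M j hj y) := by
  induction y using Module.DirectLimit.induction_on with
  | ih n x =>
    rw [hlMap_of]
    change Module.DirectLimit.lift A ℕ _ _ _ _ _ = g.hom (Module.DirectLimit.lift A ℕ _ _ _ _ _)
    rw [Module.DirectLimit.lift_of, Module.DirectLimit.lift_of]
    exact botMap_hpMap fs g j hj n x

end

end Groth.Agent.H8.CK

namespace Groth.Agent.H8.CK

variable {A : Type u} [CommRing A] (fs : List A)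

/-- the component of the comparison `H⁰_lim ≅ Γ_I`. -/
noncomputable def kosF0Equiv (M : ModuleCat.{u} A) :
    HL fs M (((0 : ℕ) : ℤ) - fs.length) ≃ₗ[A] LC.tors (Ideal.span {a | a ∈ fs}) M :=
  (botEquiv fs M _ (by simp)).trans (LinearEquiv.ofEq _ _ (tors_span_eq_torsSub fs M).symm)

lemma kosF0Equiv_coe (M : ModuleCat.{u} A) (y : HL fs M (((0 : ℕ) : ℤ) - fs.length)) :
    ((kosF0Equiv fs M y : LC.tors (Ideal.span {a | a ∈ fs}) M) : M) =
      botLim fs M _ (by simp) y := rfl

/-- the natural isomorphism `H⁰_lim ≅ Γ_I`. -/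
noncomputable def kosF0Iso : kosF fs 0 ≅ LC.Γ (Ideal.span {a | a ∈ fs}) :=
  NatIso.ofComponents (fun M => (kosF0Equiv fs M).toModuleIso) (by
    intro M N g
    apply ModuleCat.hom_ext
    apply LinearMap.ext
    intro y
    apply Subtype.ext
    change ((kosF0Equiv fs N (hlMap fs g _ y) : LC.tors (Ideal.span {a | a ∈ fs}) N) : N) =
      g.hom ((kosF0Equiv fs M y : LC.tors (Ideal.span {a | a ∈ fs}) M) : M)
    rw [kosF0Equiv_coe, kosF0Equiv_coe]
    exact botLim_hlMap fs g _ _ y)

variable [IsNoetherianRing A]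

lemma kosDelta_effaceable : (kosDelta fs).Effaceable := by
  intro E _ n
  have h := subsingleton_koszulHLim_of_injective fs E n
  exact @ModuleCat.isZero_of_subsingleton _ _ _ h

/-- **Local cohomology is direct-limit Koszul cohomology** (Noetherian ring), as functors. -/
noncomputable def lcIsoKos (i : ℕ) :
    localCohomology (Ideal.span {a | a ∈ fs}) i ≅ kosF fs i :=
  LC.DeltaFunctor.extIso (T := LC.lcDelta (Ideal.span {a | a ∈ fs})) (S := kosDelta fs)
    (LC.lcDelta_effaceable _) (kosDelta_effaceable fs)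
    ((LC.H0Iso (Ideal.span {a | a ∈ fs})).trans (kosF0Iso fs).symm) i

theorem nonempty_lc_linearEquiv_koszulHLim (M : ModuleCat.{u} A) (i : ℕ) :
    Nonempty ((localCohomology (Ideal.span {a | a ∈ fs}) i).obj M ≃ₗ[A] koszulHLim fs M i) :=
  ⟨((lcIsoKos fs i).app M).toLinearEquiv⟩

end Groth.Agent.H8.CK
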