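import Groth.Agent.Lib.Helper8.CK.Abs

/-! # Good modules are closed under extensions -/

universe u
open CategoryTheory

namespace Groth.Agent.H8.CK

variable {A : Type u} [CommRing A]

lemma subsingleton_of_exact {X Y Z : Type*} [AddCommGroup X] [AddCommGroup Y] [AddCommGroup Z]
    (f : X →+ Y) (g : Y →+ Z) (h : Function.Exact f g) [Subsingleton X] [Subsingleton Z] :
    Subsingleton Y := by
  refine ⟨fun a b => ?_⟩
  suffices hz : ∀ y : Y, y = 0 by rw [hz a, hz b]
  intro y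
  obtain ⟨x, rfl⟩ := (h y).1 (Subsingleton.elim _ _)
  rw [Subsingleton.elim x 0, map_zero]

variable (T H : CohSeq A) (η : ∀ M : ModuleCat.{u} A, M →+ T.obj 0 M)
  (hη : ∀ {M N : ModuleCat.{u} A} (φ : M ⟶ N) (x : M), T.map 0 φ (η M x) = η N (φ.hom x))

include hη in
theorem isGood_of_shortExact (S : ShortComplex (ModuleCat.{u} A)) (hS : S.ShortExact)
    (h1 : IsGood T H η S.X₁) (h3 : IsGood T H η S.X₃) : IsGood T H η S.X₂ := by
  obtain ⟨hT1, hη1, hH1⟩ := h1
  obtain ⟨hT3, hη3, hH3⟩ := h3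
  obtain ⟨δT, injT, exTa, exTb, exTc⟩ := T.les S hS
  obtain ⟨δH, -, exHa, -, -⟩ := H.les S hS
  have hf : Function.Injective S.f.hom := (ModuleCat.mono_iff_injective _).mp hS.mono_f
  have hg : Function.Surjective S.g.hom := (ModuleCat.epi_iff_surjective _).mp hS.epi_g
  have hfg : Function.Exact S.f.hom S.g.hom :=
    (ShortComplex.ShortExact.moduleCat_exact_iff_function_exact _).mp hS.exact
  refine ⟨fun p => ?_, ⟨?_, ?_⟩, fun q => ?_⟩
  · have := hT1 p
    have := hT3 p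
    exact subsingleton_of_exact _ _ (exTa (p + 1))
  · rw [injective_iff_map_eq_zero]
    intro e he
    have h1 : η S.X₃ (S.g.hom e) = 0 := by rw [← hη, he, map_zero]
    have h2 : S.g.hom e = 0 := hη3.1 (h1.trans (map_zero _).symm)
    obtain ⟨e1, rfl⟩ := (hfg e).1 h2
    have h3 : T.map 0 S.f (η S.X₁ e1) = 0 := by rw [hη, he]
    have h4 : η S.X₁ e1 = 0 := injT (h3.trans (map_zero _).symm)
    have h5 : e1 = 0 := hη1.1 (h4.trans (map_zero _).symm)
    rw [h5, map_zero]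
  · intro t
    obtain ⟨e3, he3⟩ := hη3.2 (T.map 0 S.g t)
    obtain ⟨e, rfl⟩ := hg e3
    have h1 : T.map 0 S.g (t - η S.X₂ e) = 0 := by rw [map_sub, hη, he3, sub_self]
    obtain ⟨t1, ht1⟩ := (exTa 0 _).1 h1
    obtain ⟨e1, rfl⟩ := hη1.2 t1
    refine ⟨e + S.f.hom e1, ?_⟩
    rw [map_add, ← hη, ht1]
    abel
  · have := hH1 q
    have := hH3 q
    exact subsingleton_of_exact _ _ (exHa q)

theorem isGood_of_subsingleton (E : ModuleCat.{u} A) [Subsingleton E] (hE : IsTorsLike T H E)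
    (h0 : Nonempty ((η E).ker ≃+ H.obj 0 E)) : IsGood T H η E := by
  obtain ⟨hT, hH⟩ := hE
  refine ⟨fun p => hT (p + 1), ⟨?_, ?_⟩, fun q => ?_⟩
  · intro a b _
    exact Subsingleton.elim a b
  · intro t
    have := hT 0
    exact ⟨0, Subsingleton.elim _ _⟩
  · rcases q with _ | q
    · obtain ⟨e⟩ := h0
      exact e.symm.toEquiv.subsingleton
    · exact hH q

end Groth.Agent.H8.CK
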