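import Groth.Agent.Lib.Lead.Cech.Cone

/-! # Vanishing of Čech cohomology when restriction to one member of the family is bijective -/

universe u
open CategoryTheory Limits Opposite TopologicalSpace

namespace Groth.Agent.H8.CK

open Groth.Agent.LD.CH

variable {X : TopCat.{u}} {ι : Type u} (U : ι → Opens X) (P : (Opens X)ᵒᵖ ⥤ AddCommGrpCat.{u})
  (i : ι)

lemma prod_cons_le {n : ℕ} (a : Fin (n+1) → ι) :
    (∏ᶜ (U ∘ (Fin.cons i a : Fin (n+2) → ι)) : Opens X) ≤ ∏ᶜ (U ∘ a) := by
  apply le_prod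
  intro k
  have := prod_le U (Fin.cons i a : Fin (n+2) → ι) k.succ
  simpa using this

/-- the restriction maps `P(U_a) → P(U_{i,a})`. -/
noncomputable abbrev rho {n : ℕ} (a : Fin (n+1) → ι) :
    P.obj (op (∏ᶜ (U ∘ a))) →+ P.obj (op (∏ᶜ (U ∘ (Fin.cons i a : Fin (n+2) → ι)))) :=
  (P.map (homOfLE (prod_cons_le U i a)).op).hom

variable (hbij : ∀ (n : ℕ) (a : Fin (n+1) → ι), Function.Bijective (rho U P i a))

/-- the inverse of the restriction maps. -/
noncomputable def sig {n : ℕ} (a : Fin (n+1) → ι) :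
    P.obj (op (∏ᶜ (U ∘ (Fin.cons i a : Fin (n+2) → ι)))) ≃+ P.obj (op (∏ᶜ (U ∘ a))) :=
  (AddEquiv.ofBijective (rho U P i a) (hbij n a)).symm

lemma rho_sig {n : ℕ} (a : Fin (n+1) → ι)
    (y : P.obj (op (∏ᶜ (U ∘ (Fin.cons i a : Fin (n+2) → ι))))) :
    rho U P i a (sig U P i hbij a y) = y :=
  (AddEquiv.ofBijective (rho U P i a) (hbij n a)).apply_symm_apply y

lemma sig_rho {n : ℕ} (a : Fin (n+1) → ι) (y : P.obj (op (∏ᶜ (U ∘ a)))) :
    sig U P i hbij a (rho U P i a y) = y :=
  (AddEquiv.ofBijective (rho U P i a) (hbij n a)).symm_apply_apply y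

lemma sig_eq_iff {n : ℕ} (a : Fin (n+1) → ι)
    (y : P.obj (op (∏ᶜ (U ∘ (Fin.cons i a : Fin (n+2) → ι))))) (z : P.obj (op (∏ᶜ (U ∘ a)))) :
    sig U P i hbij a y = z ↔ y = rho U P i a z := by
  constructor
  · rintro rfl
    exact (rho_sig U P i hbij a y).symm
  · rintro rfl
    exact sig_rho U P i hbij a z

/-- the contracting homotopy on concrete cochains. -/
noncomputable def hC' {n : ℕ} (c : Coch U P (n+1)) : Coch U P n :=
  fun a => sig U P i hbij a (c (Fin.cons i a))

/-- the contracting homotopy as an additive map. -/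
noncomputable def hAdd' (n : ℕ) : (K U P).X (n+1) →+ (K U P).X n where
  toFun x := (coch U P n).symm (hC' U P i hbij (coch U P (n+1) x))
  map_zero' := by
    rw [AddEquiv.symm_apply_eq, map_zero, map_zero]
    funext a
    simp [hC']
  map_add' x y := by
    rw [AddEquiv.symm_apply_eq, map_add (coch U P n), AddEquiv.apply_symm_apply,
      AddEquiv.apply_symm_apply, map_add (coch U P (n+1))]
    funext a
    simp [hC']

lemma coch_hAdd' (n : ℕ) (x : (K U P).X (n+1)) (a : Fin (n+1) → ι) :
    coch U P n (hAdd' U P i hbij n x) a =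
      sig U P i hbij a (coch U P (n+1) x (Fin.cons i a)) := by
  change coch U P n ((coch U P n).symm _) a = _
  rw [AddEquiv.apply_symm_apply]
  rfl

/-- the homotopy identity in positive degrees. -/
theorem hAdd'_d_succ (n : ℕ) (x : (K U P).X (n+1)) :
    hAdd' U P i hbij (n+1) ((K U P).d (n+1) (n+2) x) +
      (K U P).d n (n+1) (hAdd' U P i hbij n x) = x := by
  apply coch_ext
  intro a
  rw [map_add, Pi.add_apply, coch_hAdd', coch_d, coch_d, map_sum, Fin.sum_univ_succ]
  simp only [Fin.val_zero, pow_zero, one_smul, Fin.val_succ, map_zsmul]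
  have h0 : sig U P i hbij a
      (P.map (face U (Fin.cons i a : Fin (n+3) → ι) 0).op
        (coch U P (n+1) x ((Fin.cons i a : Fin (n+3) → ι) ∘ (0 : Fin (n+3)).succAbove))) =
      coch U P (n+1) x a := by
    rw [sig_eq_iff]
    change _ = P.map _ _
    exact res_congr U P (coch U P (n+1) x) (cons_comp_succAbove_zero i a) _ _
  rw [h0]
  apply add_add_eq_left_of_add_eq_zero
  rw [← Finset.sum_add_distrib]
  refine Finset.sum_eq_zero fun j _ => ?_
  rw [coch_hAdd', pow_succ, mul_neg_one, neg_smul, neg_add_eq_zero]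
  congr 1
  rw [sig_eq_iff]
  change _ = P.map _ (P.map _ _)
  rw [res_res P _ _ (homOfLE (prod_cons_le U i a) ≫ face U a j)]
  have hle : (∏ᶜ (U ∘ (Fin.cons i a : Fin (n+3) → ι)) : Opens X) ≤
      ∏ᶜ (U ∘ (Fin.cons i (a ∘ j.succAbove) : Fin (n+2) → ι)) := by
    apply le_prod
    intro k
    have h1 := prod_le U (Fin.cons i a : Fin (n+3) → ι) (j.succ.succAbove k)
    have h2 := congrFun (cons_comp_succAbove_succ i a j) k
    simp only [Function.comp_apply] at h2
    rw [h2] at h1
    exact h1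
  have h3 : P.map (homOfLE (prod_cons_le U i a) ≫ face U a j).op
      (sig U P i hbij (a ∘ j.succAbove)
        (coch U P (n+1) x (Fin.cons i (a ∘ j.succAbove)))) =
      P.map (homOfLE hle).op (coch U P (n+1) x (Fin.cons i (a ∘ j.succAbove))) := by
    conv_rhs => rw [← rho_sig U P i hbij (a ∘ j.succAbove)
      (coch U P (n+1) x (Fin.cons i (a ∘ j.succAbove)))]
    change _ = P.map _ (P.map _ _)
    rw [res_res P _ _ (homOfLE (prod_cons_le U i a) ≫ face U a j)]
  rw [h3]
  exact res_congr U P (coch U P (n+1) x) (cons_comp_succAbove_succ i a j) _ _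

include hbij in
/-- **vanishing of higher Čech cohomology**. -/
theorem isZero_homology_succ_of_bijective (n : ℕ) : IsZero ((K U P).homology (n+1)) := by
  rw [isZero_homology_succ_iff]
  intro x hx
  refine ⟨hAdd' U P i hbij n x, ?_⟩
  have := hAdd'_d_succ U P i hbij n x
  rw [hx, map_zero, zero_add] at this
  exact this

end Groth.Agent.H8.CK
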