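import Groth.Agent.Lib.Helper8.CK.KLim

/-! # Direct-limit Koszul cohomology vanishes when an element of the list acts bijectively -/

open CategoryTheory CategoryTheory.Limits CochainComplex HomologicalComplex
  CochainComplex.HomComplex

universe u

namespace Groth.Agent.H8.CK

open CohIII Groth.Agent.H2.Kos

variable {A : Type u} [CommRing A]

theorem isZero_homology_of_bijective (E : ModuleCat.{u} A) (xs : List A) (x : A) (hx : x ∈ xs)
    (hb : Function.Bijective (fun e : E => x • e)) (j : ℤ) :
    IsZero ((koszulCx E xs).homology j) := by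
  let e : E ≃ₗ[A] E := LinearEquiv.ofBijective (LinearMap.lsmul A E x) hb
  let g : E ⟶ E := ModuleCat.ofHom e.symm.toLinearMap
  have hg : g ≫ (x • 𝟙 E) = 𝟙 E := by
    ext t
    change x • e.symm t = t
    exact e.apply_symm_apply t
  obtain ⟨ho⟩ := nonempty_homotopy_of_mem E xs x hx
  rw [IsZero.iff_id_eq_zero, ← HomologicalComplex.homologyMap_id, ← kmap_id', ← hg, kmap_comp,
    kmap_smul_id, HomologicalComplex.homologyMap_comp, ho.homologyMap_eq j,
    HomologicalComplex.homologyMap_zero, comp_zero]

theorem subsingleton_HL_of_bijective (E : ModuleCat.{u} A) (fs : List A) (f : A) (hf : f ∈ fs)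
    (hb : Function.Bijective (fun e : E => f • e)) (j : ℤ) :
    Subsingleton (HL fs E j) := by
  apply dlim_subsingleton_of_forall
  intro n
  apply ModuleCat.subsingleton_of_isZero
  apply isZero_homology_of_bijective E (pw fs n) (f ^ n) (List.mem_map_of_mem hf)
  have : (fun e : E => f ^ n • e) = (fun e : E => f • e)^[n] := by
    induction n with
    | zero => funext e; simp
    | succ n ih =>
      funext e
      rw [Function.iterate_succ_apply', ← congrFun ih e, pow_succ', mul_smul]
  rw [this]
  exact hb.iterate n

end Groth.Agent.H8.CK
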