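import Groth.Agent.Lib.Helper8.CK.CechSec
import Groth.Agent.Lib.Helper8.CK.KInv
import Groth.Agent.Lib.Helper8.CK.Abs2

/-! # The augmentation `M → Ȟ⁰`, its kernel, torsion modules and good modules -/

universe u
open CategoryTheory Limits Opposite TopologicalSpace AlgebraicGeometry

namespace Groth.Agent.H8.CK

open Groth.Agent.LD Groth.Agent.LD.CH CohIII

variable (R : CommRingCat.{u}) (fs : List R)

/-- `M → Γ(M~, V)` as an additive map into the sections of the underlying abelian sheaf. -/
noncomputable def toSec (M : ModuleCat.{u} R) (V : (Spec R).Opens) :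
    M →+ ((tF R).obj M).obj.obj (op V) :=
  (tilde.toOpen M V).hom.toAddMonoidHom

lemma toSec_res (M : ModuleCat.{u} R) {V W : (Spec R).Opens} (i : W ⟶ V) (m : M) :
    ((tF R).obj M).obj.map i.op (toSec R M V m) = toSec R M W m := rfl

lemma toSec_map {M N : ModuleCat.{u} R} (g : M ⟶ N) (V : (Spec R).Opens) (m : M) :
    ((tF R).map g).hom.app (op V) (toSec R M V m) = toSec R N V (g.hom m) := by
  have := tilde.toOpen_map_app g V
  exact congrArg (fun f => f.hom m) this

/-- the augmentation `M → Ȟ⁰(cov, M~)`. -/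
noncomputable def eta (M : ModuleCat.{u} R) : M →+ (Tseq R fs).obj 0 M :=
  (topH0Equiv (cov R fs) ((tF R).obj M)).symm.toAddMonoidHom.comp (toSec R M (iSup (cov R fs)))

lemma eta_apply (M : ModuleCat.{u} R) (m : M) :
    eta R fs M m = (topH0Equiv (cov R fs) ((tF R).obj M)).symm (toSec R M (iSup (cov R fs)) m) :=
  rfl

lemma topH0_eta (M : ModuleCat.{u} R) (m : M) :
    topH0Equiv (cov R fs) ((tF R).obj M) (eta R fs M m) = toSec R M (iSup (cov R fs)) m :=
  (topH0Equiv (cov R fs) ((tF R).obj M)).apply_symm_apply _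

lemma eta_natural {M N : ModuleCat.{u} R} (φ : M ⟶ N) (x : M) :
    (Tseq R fs).map 0 φ (eta R fs M x) = eta R fs N (φ.hom x) := by
  apply (topH0Equiv (cov R fs) ((tF R).obj N)).injective
  have := topH0Equiv_naturality (cov R fs) ((tF R).map φ) (eta R fs M x)
  refine this.trans ?_
  rw [topH0_eta, topH0_eta]
  exact toSec_map R φ _ x

lemma eta_eq_zero_iff (M : ModuleCat.{u} R) (m : M) :
    eta R fs M m = 0 ↔ m ∈ torsSub fs M := by
  have h0 : eta R fs M m = 0 ↔ toSec R M (iSup (cov R fs)) m = 0 := by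
    rw [← topH0_eta]
    exact (AddEquiv.map_eq_zero_iff (topH0Equiv (cov R fs) ((tF R).obj M))).symm
  rw [h0]
  constructor
  · intro h f hf
    obtain ⟨i, rfl⟩ := List.mem_iff_get.mp hf
    have h1 := congrArg (((tF R).obj M).obj.map (Opens.leSupr (cov R fs) ⟨i⟩).op) h
    rw [toSec_res, map_zero] at h1
    exact (toΓ_eq_zero_iff M (fs.get i) m).1 h1
  · intro h
    apply TopCat.Sheaf.eq_of_locally_eq ((tF R).obj M) (cov R fs)
    intro i
    rw [map_zero]
    refine (toSec_res R M _ m).trans ?_
    exact (toΓ_eq_zero_iff M (fs.get i.down) m).2 (h _ (List.get_mem _ _))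

lemma ker_eta (M : ModuleCat.{u} R) : (eta R fs M).ker = (torsSub fs M).toAddSubgroup := by
  ext m
  exact eta_eq_zero_iff R fs M m

/-- the kernel of `η` is `H⁰` of the direct-limit Koszul cohomology. -/
theorem nonempty_ker_eta_equiv (M : ModuleCat.{u} R) :
    Nonempty ((eta R fs M).ker ≃+ (Hseq fs).obj 0 M) := by
  have e1 : (eta R fs M).ker ≃+ (torsSub fs M).toAddSubgroup :=
    AddEquiv.addSubgroupCongr (ker_eta R fs M)
  have e2 : HL fs M ((0 : ℕ) - (fs.length : ℤ)) ≃ₗ[R] torsSub fs M :=
    botEquiv fs M _ (by simp)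
  exact ⟨e1.trans e2.symm.toAddEquiv⟩

section tors

variable {R}

lemma locNil_mul_left {N : Type*} [AddCommGroup N] [Module R N] {f : R} (hf : LocNil N f) (h : R) :
    LocNil N (f * h) := by
  intro x
  obtain ⟨k, hk⟩ := hf x
  exact ⟨k, by rw [mul_pow, mul_comm, mul_smul, hk, smul_zero]⟩

lemma gprod_succ {n : ℕ} (a : Fin (n+1) → ULift.{u} (Fin fs.length)) :
    gprod R fs a = fs.get (a 0).down * ∏ k : Fin n, fs.get (a k.succ).down := by
  unfold gprod
  rw [Fin.prod_univ_succ]

lemma gprod_cons {n : ℕ} (i : ULift.{u} (Fin fs.length))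
    (a : Fin (n+1) → ULift.{u} (Fin fs.length)) :
    gprod R fs (Fin.cons i a : Fin (n+2) → _) = fs.get i.down * gprod R fs a := by
  unfold gprod
  rw [Fin.prod_univ_succ]
  simp

variable (R)

lemma subsingleton_X_of_locNil (N : ModuleCat.{u} R) (hN : ∀ f ∈ fs, LocNil N f) (p : ℕ) :
    Subsingleton (((tC R fs).obj N).X p) := by
  have h1 : ∀ a : Fin (p+1) → ULift.{u} (Fin fs.length),
      Subsingleton (((tF R).obj N).obj.obj (op (∏ᶜ (cov R fs ∘ a)))) := by
    intro a
    rw [prod_cov]
    apply subsingleton_sections_of_locNil N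
    rw [gprod_succ]
    exact locNil_mul_left (hN _ (List.get_mem _ _)) _
  have : Subsingleton (Coch (cov R fs) ((tF R).obj N).obj p) :=
    ⟨fun c c' => funext fun a => (h1 a).elim _ _⟩
  exact (coch (cov R fs) ((tF R).obj N).obj p).toEquiv.subsingleton

theorem isTorsLike_of_locNil (N : ModuleCat.{u} R) (hN : ∀ f ∈ fs, LocNil N f) :
    IsTorsLike (Tseq R fs) (Hseq fs) N := by
  refine ⟨fun p => ?_, fun q => ?_⟩
  · have hX := subsingleton_X_of_locNil R fs N hN p
    have hz : IsZero (((tC R fs).obj N).X p) := AddCommGrpCat.isZero_of_subsingleton _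
    have hz' : IsZero (((tC R fs).obj N).homology p) :=
      (HomologicalComplex.ExactAt.of_isZero hz).isZero_homology
    exact AddCommGrpCat.subsingleton_of_isZero hz'
  · exact subsingleton_HL_of_locNil N fs hN _ (by push_cast; omega)

end tors

section good

variable (E : ModuleCat.{u} R) (i₀ : ULift.{u} (Fin fs.length))
  (hb : Function.Bijective (fun e : E => fs.get i₀.down • e))

include hb in
lemma bijective_rho (n : ℕ) (a : Fin (n+1) → ULift.{u} (Fin fs.length)) :
    Function.Bijective (rho (cov R fs) ((tF R).obj E).obj i₀ a) :=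
  bijective_res_of_bijective E (fs.get i₀.down) (gprod R fs a) hb _ _ (prod_cov R fs a)
    ((prod_cov R fs _).trans (congrArg _ (gprod_cons fs i₀ a))) _

include hb in
lemma isZero_T_succ (p : ℕ) : Subsingleton ((Tseq R fs).obj (p + 1) E) := by
  have hz := isZero_homology_succ_of_bijective (cov R fs) ((tF R).obj E).obj i₀
    (bijective_rho R fs E i₀ hb) p
  exact AddCommGrpCat.subsingleton_of_isZero hz

include hb in
lemma bijective_eta : Function.Bijective (eta R fs E) := by
  have hfk : ∀ k : ℕ, Function.Injective (fun m : E => fs.get i₀.down ^ k • m) := by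
    intro k
    have : (fun m : E => fs.get i₀.down ^ k • m) = (fun m : E => fs.get i₀.down • m)^[k] := by
      induction k with
      | zero => funext e; simp
      | succ n ih =>
        funext e
        rw [Function.iterate_succ_apply', ← congrFun ih e, pow_succ', mul_smul]
    rw [this]
    exact hb.injective.iterate k
  constructor
  · rw [injective_iff_map_eq_zero]
    intro m hm
    rw [eta_eq_zero_iff] at hm
    obtain ⟨k, hk⟩ := hm _ (List.get_mem fs i₀.down)
    exact hfk k (hk.trans (smul_zero _).symm)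
  · intro t
    -- it suffices to lift the corresponding section
    obtain ⟨s, rfl⟩ := (topH0Equiv (cov R fs) ((tF R).obj E)).symm.surjective t
    obtain ⟨x, hx⟩ := (bijective_toΓ_of_bijective E (fs.get i₀.down) hb).2
      (((tF R).obj E).obj.map (Opens.leSupr (cov R fs) i₀).op s)
    refine ⟨x, ?_⟩
    rw [eta_apply]
    congr 1
    apply TopCat.Sheaf.eq_of_locally_eq ((tF R).obj E) (cov R fs)
    intro j
    rw [toSec_res]
    -- compare on `D(f * f_j)`
    obtain ⟨W, hWdef⟩ : ∃ W : (Spec R).Opens,
        W = PrimeSpectrum.basicOpen (fs.get i₀.down * fs.get j.down) := ⟨_, rfl⟩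
    have hW : W ≤ cov R fs j := by
      rw [hWdef, PrimeSpectrum.basicOpen_mul]; exact inf_le_right
    have hW' : W ≤ cov R fs i₀ := by
      rw [hWdef, PrimeSpectrum.basicOpen_mul]; exact inf_le_left
    have hinj := (bijective_res_of_bijective E (fs.get i₀.down) (fs.get j.down) hb
      (cov R fs j) W rfl hWdef (homOfLE hW)).1
    apply hinj
    change ((tF R).obj E).obj.map (homOfLE hW).op (toSec R E (cov R fs j) x) =
      ((tF R).obj E).obj.map (homOfLE hW).op
        (((tF R).obj E).obj.map (Opens.leSupr (cov R fs) j).op s)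
    rw [toSec_res, res_res ((tF R).obj E).obj _ _
        (homOfLE (hW'.trans (le_iSup (cov R fs) i₀))),
      ← res_res ((tF R).obj E).obj (Opens.leSupr (cov R fs) i₀) (homOfLE hW')
        (homOfLE (hW'.trans (le_iSup (cov R fs) i₀)))]
    have hx' : toSec R E (cov R fs i₀) x =
        ((tF R).obj E).obj.map (Opens.leSupr (cov R fs) i₀).op s := hx
    rw [← hx', toSec_res]

include hb in
theorem isGood_of_bijective : IsGood (Tseq R fs) (Hseq fs) (eta R fs) E :=
  ⟨isZero_T_succ R fs E i₀ hb, bijective_eta R fs E i₀ hb,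
    fun _ => subsingleton_HL_of_bijective E fs _ (List.get_mem fs i₀.down) hb _⟩

end good

end Groth.Agent.H8.CK
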