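import Groth.Agent.Lib.Helper8.CK.CechSpec
import Groth.Agent.Lib.Helper8.CK.KBot

/-! # Sections of `M~` over basic opens: torsion modules and modules with an invertible element -/

universe u
open CategoryTheory Limits Opposite TopologicalSpace AlgebraicGeometry

namespace Groth.Agent.H8.CK

open Groth.Agent.LD Groth.Agent.LD.CH

variable {R : CommRingCat.{u}} (M : ModuleCat.{u} R)

/-- the canonical linear map `M → Γ(M~, V)`. -/
noncomputable abbrev toΓ (V : (Spec R).Opens) : M →ₗ[R] Γ(tilde M, V) := (tilde.toOpen M V).hom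

lemma toΓ_res {V W : (Spec R).Opens} (i : W ⟶ V) (m : M) :
    (tilde M).presheaf.map i.op (toΓ M V m) = toΓ M W m := rfl

instance isLoc_toΓ (f : R) : IsLocalizedModule.Away f (toΓ M (PrimeSpectrum.basicOpen f)) :=
  inferInstanceAs (IsLocalizedModule.Away f (tilde.toOpen M (PrimeSpectrum.basicOpen f)).hom)

lemma toΓ_eq_zero_iff (f : R) (m : M) :
    toΓ M (PrimeSpectrum.basicOpen f) m = 0 ↔ ∃ k : ℕ, f ^ k • m = 0 := by
  rw [IsLocalizedModule.eq_zero_iff (Submonoid.powers f)]
  constructor
  · rintro ⟨⟨_, k, rfl⟩, h⟩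
    exact ⟨k, h⟩
  · rintro ⟨k, h⟩
    exact ⟨⟨_, k, rfl⟩, h⟩

lemma exists_pow_smul_eq_toΓ (f : R) (y : Γ(tilde M, PrimeSpectrum.basicOpen f)) :
    ∃ (k : ℕ) (x : M), f ^ k • y = toΓ M (PrimeSpectrum.basicOpen f) x := by
  obtain ⟨⟨x, ⟨_, k, rfl⟩⟩, h⟩ := IsLocalizedModule.surj (Submonoid.powers f)
    (toΓ M (PrimeSpectrum.basicOpen f)) y
  exact ⟨k, x, h⟩

lemma smul_pow_injective {V : (Spec R).Opens} {f : R} (hV : V ≤ PrimeSpectrum.basicOpen f)
    (k : ℕ) {y y' : Γ(tilde M, V)} (h : f ^ k • y = f ^ k • y') : y = y' :=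
  ((tilde M).isSMulRegular_of_le_basicOpen hV).pow k h

lemma exists_pow_smul_eq {V : (Spec R).Opens} {f : R} (hV : V ≤ PrimeSpectrum.basicOpen f)
    (k : ℕ) (y : Γ(tilde M, V)) : ∃ y' : Γ(tilde M, V), f ^ k • y' = y := by
  have h := (tilde M).isUnit_algebraMap_end_of_le_basicOpen f hV
  have h2 := (h.pow k)
  rw [← map_pow, Module.End.isUnit_iff] at h2
  exact h2.surjective y

/-- sections of `N~` over `D(g)` vanish when `g` is locally nilpotent on `N`. -/
lemma subsingleton_sections_of_locNil (g : R) (hg : LocNil M g) :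
    Subsingleton Γ(tilde M, PrimeSpectrum.basicOpen g) := by
  refine ⟨fun a b => ?_⟩
  suffices hz : ∀ y : Γ(tilde M, PrimeSpectrum.basicOpen g), y = 0 by rw [hz a, hz b]
  intro y
  obtain ⟨k, x, hx⟩ := exists_pow_smul_eq_toΓ M g y
  obtain ⟨j, hj⟩ := hg x
  have h0 : toΓ M (PrimeSpectrum.basicOpen g) x = 0 := (toΓ_eq_zero_iff M g x).2 ⟨j, hj⟩
  rw [h0] at hx
  apply smul_pow_injective M le_rfl k
  rw [hx, smul_zero]

/-- restriction from `D(g)` to `D(f g)` is bijective when `f` acts bijectively on `M`. -/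
lemma bijective_res_of_bijective (f g : R) (hf : Function.Bijective (fun m : M => f • m))
    (V W : (Spec R).Opens) (hV : V = PrimeSpectrum.basicOpen g)
    (hW : W = PrimeSpectrum.basicOpen (f * g)) (i : W ⟶ V) :
    Function.Bijective ((tilde M).presheaf.map i.op) := by
  subst hV hW
  have hWf : PrimeSpectrum.basicOpen (f * g) ≤ PrimeSpectrum.basicOpen f := by
    rw [PrimeSpectrum.basicOpen_mul]; exact inf_le_left
  have hWg : PrimeSpectrum.basicOpen (f * g) ≤ PrimeSpectrum.basicOpen g := by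
    rw [PrimeSpectrum.basicOpen_mul]; exact inf_le_right
  have hfk : ∀ k : ℕ, Function.Bijective (fun m : M => f ^ k • m) := by
    intro k
    have : (fun m : M => f ^ k • m) = (fun m : M => f • m)^[k] := by
      induction k with
      | zero => funext e; simp
      | succ n ih =>
        funext e
        rw [Function.iterate_succ_apply', ← congrFun ih e, pow_succ', mul_smul]
    rw [this]
    exact hf.iterate k
  have hres : ∀ (y : Γ(tilde M, PrimeSpectrum.basicOpen g)) (r : R),
      (tilde M).presheaf.map i.op (r • y) = r • (tilde M).presheaf.map i.op y := fun y r =>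
    Scheme.Modules.map_smul_Spec (M := tilde M) i.op r y
  constructor
  · rw [injective_iff_map_eq_zero]
    intro y hy
    obtain ⟨k, x, hx⟩ := exists_pow_smul_eq_toΓ M g y
    have h1 : toΓ M (PrimeSpectrum.basicOpen (f * g)) x = 0 := by
      rw [← toΓ_res M i x, ← hx, hres, hy, smul_zero]
    obtain ⟨j, hj⟩ := (toΓ_eq_zero_iff M (f * g) x).1 h1
    rw [mul_pow, mul_smul] at hj
    have h2 : g ^ j • x = 0 := (hfk j).injective (hj.trans (smul_zero _).symm)
    have h3 : toΓ M (PrimeSpectrum.basicOpen g) x = 0 := (toΓ_eq_zero_iff M g x).2 ⟨j, h2⟩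
    rw [h3] at hx
    apply smul_pow_injective M le_rfl k
    rw [hx, smul_zero]
  · intro w
    obtain ⟨k, x, hx⟩ := exists_pow_smul_eq_toΓ M (f * g) w
    obtain ⟨x', rfl⟩ := (hfk k).surjective x
    rw [mul_pow, mul_smul, map_smul] at hx
    have h1 : g ^ k • w = toΓ M (PrimeSpectrum.basicOpen (f * g)) x' :=
      smul_pow_injective M hWf k hx
    obtain ⟨y, hy⟩ := exists_pow_smul_eq M le_rfl k (toΓ M (PrimeSpectrum.basicOpen g) x')
    refine ⟨y, ?_⟩
    apply smul_pow_injective M hWg k
    rw [← hres, hy, h1]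
    rfl

/-- `M → Γ(M~, D(f))` is bijective when `f` acts bijectively on `M`. -/
lemma bijective_toΓ_of_bijective (f : R) (hf : Function.Bijective (fun m : M => f • m)) :
    Function.Bijective (toΓ M (PrimeSpectrum.basicOpen f)) := by
  have hfk : ∀ k : ℕ, Function.Bijective (fun m : M => f ^ k • m) := by
    intro k
    have : (fun m : M => f ^ k • m) = (fun m : M => f • m)^[k] := by
      induction k with
      | zero => funext e; simp
      | succ n ih =>
        funext e
        rw [Function.iterate_succ_apply', ← congrFun ih e, pow_succ', mul_smul]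
    rw [this]
    exact hf.iterate k
  constructor
  · rw [injective_iff_map_eq_zero]
    intro m hm
    obtain ⟨k, hk⟩ := (toΓ_eq_zero_iff M f m).1 hm
    exact (hfk k).injective (hk.trans (smul_zero _).symm)
  · intro y
    obtain ⟨k, x, hx⟩ := exists_pow_smul_eq_toΓ M f y
    obtain ⟨x', rfl⟩ := (hfk k).surjective x
    rw [map_smul] at hx
    exact ⟨x', (smul_pow_injective M le_rfl k hx).symm⟩

end Groth.Agent.H8.CK
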