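import Groth.Agent.Lib.Lead.Cech.SchemeNat
import Groth.Agent.Lib.Lead.SC.SerreCrit
import Groth.Agent.Lib.Helper5.AG.TildeExact
import Groth.Agent.Lib.Helper8.CK.Abs
import Groth.Agent.Lib.Helper8.CK.CechCone

/-! # Čech cohomology of `M~` on `Spec R` for a family of basic opens, as a cohomological sequence -/

universe u
open CategoryTheory Limits Opposite TopologicalSpace AlgebraicGeometry

namespace Groth.Agent.H8.CK

open Groth.Agent.LD Groth.Agent.LD.CH

variable (R : CommRingCat.{u}) (fs : List R)

/-- the family of basic opens of `Spec R` attached to a list. -/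
def cov : ULift.{u} (Fin fs.length) → (Spec R).Opens :=
  fun i => PrimeSpectrum.basicOpen (fs.get i.down)

/-- the product of the functions indexed by `a`. -/
def gprod {n : ℕ} (a : Fin n → ULift.{u} (Fin fs.length)) : R := ∏ k, fs.get (a k).down

lemma prod_cov {n : ℕ} (a : Fin (n+1) → ULift.{u} (Fin fs.length)) :
    (∏ᶜ (cov R fs ∘ a) : (Spec R).Opens) = PrimeSpectrum.basicOpen (gprod R fs a) := by
  rw [prod_eq_iInf (X := (Spec R).toTopCat)]
  apply Opens.ext
  rw [Opens.coe_iInf]
  ext x
  simp only [Set.mem_iInter, SetLike.mem_coe, cov, gprod]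
  change (∀ i, fs.get (a i).down ∉ (show PrimeSpectrum R from x).asIdeal) ↔
    (∏ k, fs.get (a k).down) ∉ (show PrimeSpectrum R from x).asIdeal
  rw [Ideal.IsPrime.prod_mem_iff]
  simp

lemma isAffineOpen_prod_cov {n : ℕ} (a : Fin (n+1) → ULift.{u} (Fin fs.length)) :
    IsAffineOpen (∏ᶜ (cov R fs ∘ a) : (Spec R).Opens) := by
  rw [prod_cov]
  exact IsAffineOpen.Spec_basicOpen _

/-- `M ↦ M~` as a functor to abelian sheaves. -/
noncomputable abbrev tF : ModuleCat.{u} R ⥤ Sheaf (SC.JX (Spec R)) AddCommGrpCat.{u} :=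
  tilde.functor R ⋙ SC.toAbF (Spec R)

/-- the Čech complex of `M~` for the family `cov`. -/
noncomputable abbrev tC : ModuleCat.{u} R ⥤ CochainComplex AddCommGrpCat.{u} ℕ :=
  tF R ⋙ Φ (SC.JX (Spec R)) (cov R fs)

lemma tF_shortExact {S : ShortComplex (ModuleCat.{u} R)} (hS : S.ShortExact) :
    (S.map (tF R)).ShortExact := by
  have := Groth.Agent.H5.AG.tilde_preservesFiniteLimits R
  have := Groth.Agent.H5.AG.tilde_preservesFiniteColimits R
  have h1 : (S.map (tilde.functor R)).ShortExact := hS.map_of_exact (tilde.functor R)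
  exact SC.shortExact_toSheaf h1

lemma tC_shortExact {S : ShortComplex (ModuleCat.{u} R)} (hS : S.ShortExact) :
    (S.map (tC R fs)).ShortExact := by
  have h2 := tF_shortExact R hS
  refine shortExact_cech (cov R fs) h2 ?_
  intro n a
  apply SC.surjective_app_of_subsingleton_ext1 h2
  exact SC.subsingleton_ext_of_isAffineOpen (tilde S.X₁) 0 _ (isAffineOpen_prod_cov R fs a)

/-- Čech cohomology of `M~` as a cohomological sequence. -/
noncomputable def Tseq : CohSeq R where
  obj p M := (((tC R fs).obj M).homology p : AddCommGrpCat.{u})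
  grp p M := inferInstance
  map p {M N} g := (HomologicalComplex.homologyMap ((tC R fs).map g) p).hom
  les S hS := by
    have hC := tC_shortExact R fs hS
    refine ⟨fun p => (hC.δ p (p + 1) rfl).hom, ?_, ?_, ?_, ?_⟩
    · have hm : Mono ((S.map (tC R fs)).f.f 0) :=
        (hC.map_of_exact (HomologicalComplex.eval _ _ 0)).mono_f
      have := HomologicalComplex.mono_homologyMap_of_mono_of_not_rel (S.map (tC R fs)).f 0
        (by intro i; simp)
      exact (AddCommGrpCat.mono_iff_injective _).1 this
    · intro p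
      exact (ShortComplex.ab_exact_iff_function_exact _).1 (hC.homology_exact₂ p)
    · intro p
      exact (ShortComplex.ab_exact_iff_function_exact _).1 (hC.homology_exact₃ p (p + 1) rfl)
    · intro p
      exact (ShortComplex.ab_exact_iff_function_exact _).1 (hC.homology_exact₁ p (p + 1) rfl)

end Groth.Agent.H8.CK
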