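import Mathlib.Algebra.Colimit.Module
import Mathlib.Algebra.Exact.Basic

/-! # Exactness of direct limits of modules -/

namespace Groth.Agent.H8.CK

open Module Module.DirectLimit

variable {R : Type*} [Ring R] {ι : Type*} [Preorder ι] [DecidableEq ι] [Nonempty ι]
  [IsDirectedOrder ι]
  {G G' G'' : ι → Type*}
  [∀ i, AddCommGroup (G i)] [∀ i, Module R (G i)]
  [∀ i, AddCommGroup (G' i)] [∀ i, Module R (G' i)]
  [∀ i, AddCommGroup (G'' i)] [∀ i, Module R (G'' i)]
  {f : ∀ i j, i ≤ j → G i →ₗ[R] G j} {f' : ∀ i j, i ≤ j → G' i →ₗ[R] G' j}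
  {f'' : ∀ i j, i ≤ j → G'' i →ₗ[R] G'' j}

theorem dlim_map_exact [DirectedSystem G' (f' · · ·)] [DirectedSystem G'' (f'' · · ·)]
    (g : ∀ i, G i →ₗ[R] G' i) (hg : ∀ i j h, g j ∘ₗ f i j h = f' i j h ∘ₗ g i)
    (g' : ∀ i, G' i →ₗ[R] G'' i) (hg' : ∀ i j h, g' j ∘ₗ f' i j h = f'' i j h ∘ₗ g' i)
    (h : ∀ i, Function.Exact (g i) (g' i)) :
    Function.Exact (Module.DirectLimit.map g hg) (Module.DirectLimit.map g' hg') := by
  intro y
  constructor
  · intro hy
    obtain ⟨i, x, rfl⟩ := exists_of y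
    rw [map_apply_of] at hy
    obtain ⟨j, hij, hj⟩ := of.zero_exact hy
    have h1 : g' j (f' i j hij x) = 0 := by
      have := LinearMap.congr_fun (hg' i j hij) x
      simp only [LinearMap.coe_comp, Function.comp_apply] at this
      rw [this, hj]
    obtain ⟨z, hz⟩ := (h j _).1 h1
    refine ⟨of R ι G f j z, ?_⟩
    rw [map_apply_of, hz, of_f]
  · rintro ⟨x, rfl⟩
    obtain ⟨i, x, rfl⟩ := exists_of x
    rw [map_apply_of, map_apply_of, (h i _).2 ⟨x, rfl⟩, map_zero]

theorem dlim_map_injective [DirectedSystem G (f · · ·)] [DirectedSystem G' (f' · · ·)]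
    (g : ∀ i, G i →ₗ[R] G' i) (hg : ∀ i j h, g j ∘ₗ f i j h = f' i j h ∘ₗ g i)
    (h : ∀ i, Function.Injective (g i)) :
    Function.Injective (Module.DirectLimit.map g hg) := by
  rw [injective_iff_map_eq_zero]
  intro y hy
  obtain ⟨i, x, rfl⟩ := exists_of y
  rw [map_apply_of] at hy
  obtain ⟨j, hij, hj⟩ := of.zero_exact hy
  have h1 : g j (f i j hij x) = 0 := by
    have := LinearMap.congr_fun (hg i j hij) x
    simp only [LinearMap.coe_comp, Function.comp_apply] at this
    rw [this, hj]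
  have h2 : f i j hij x = 0 := h j (h1.trans (map_zero _).symm)
  rw [← of_f (hij := hij), h2, map_zero]

theorem dlim_subsingleton_of_eventually_zero
    (h : ∀ i (x : G i), ∃ j, ∃ hij : i ≤ j, f i j hij x = 0) :
    Subsingleton (Module.DirectLimit G f) := by
  refine ⟨fun a b => ?_⟩
  suffices hz : ∀ y : Module.DirectLimit G f, y = 0 by rw [hz a, hz b]
  intro y
  obtain ⟨i, x, rfl⟩ := exists_of y
  obtain ⟨j, hij, hj⟩ := h i x
  rw [← of_f (hij := hij), hj, map_zero]

theorem dlim_subsingleton_of_forall (h : ∀ i, Subsingleton (G i)) :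
    Subsingleton (Module.DirectLimit G f) :=
  dlim_subsingleton_of_eventually_zero fun i x => ⟨i, le_rfl, Subsingleton.elim _ _⟩

end Groth.Agent.H8.CK
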