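import Groth.Agent.Lib.Helper8.CK.Shift
import Groth.Agent.Lib.Helper8.CK.CmpIso
import Groth.Agent.Lib.Lead.QC.Push

/-! # Reduction of Čech cohomology of basic opens on a qcqs scheme to the affine case -/

universe u
open CategoryTheory Limits Opposite TopologicalSpace AlgebraicGeometry

namespace Groth.Agent.H8.CK

open Groth.Agent.LD Groth.Agent.LD.CH CohIII

variable (X : Scheme.{u}) (fs : List Γ(X, ⊤)) (F : X.Modules)

/-- the family of basic opens of `X` attached to a list of global functions. -/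
def covX : ULift.{u} (Fin fs.length) → X.Opens := fun i => X.basicOpen (fs.get i.down)

lemma preimage_cov (i : ULift.{u} (Fin fs.length)) :
    X.toSpecΓ ⁻¹ᵁ (cov Γ(X, ⊤) fs i) = covX X fs i :=
  Scheme.toSpecΓ_preimage_basicOpen X _

lemma preimage_prod (n : ℕ) (a : Fin (n+1) → ULift.{u} (Fin fs.length)) :
    (Opens.map X.toSpecΓ.base).obj (∏ᶜ (cov Γ(X, ⊤) fs ∘ a)) = ∏ᶜ (covX X fs ∘ a) := by
  apply le_antisymm
  · apply le_prod (X := X.toTopCat)
    intro k
    rw [← preimage_cov]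
    exact (Opens.map X.toSpecΓ.base).monotone (prod_le (X := (Spec Γ(X, ⊤)).toTopCat) _ a k)
  · intro x hx
    change X.toSpecΓ.base x ∈ (∏ᶜ (cov Γ(X, ⊤) fs ∘ a) : (Spec Γ(X, ⊤)).Opens)
    rw [prod_eq_iInf (X := (Spec Γ(X, ⊤)).toTopCat)]
    have : ∀ k, x ∈ covX X fs (a k) := fun k => prod_le (X := X.toTopCat) _ a k hx
    have h2 : X.toSpecΓ.base x ∈ ((⨅ k, cov Γ(X, ⊤) fs (a k) : (Spec Γ(X, ⊤)).Opens) : Set _) := by
      rw [Opens.coe_iInf]
      simp only [Set.mem_iInter]
      intro k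
      have := this k
      rw [← preimage_cov] at this
      exact this
    exact h2

/-- the comparison isomorphism between the Čech complex of `F` on `X` and that of `π_* F`
on `Spec Γ(X, O)`. -/
noncomputable def cechPushIso :
    K (covX X fs) F.presheaf ≅
      K (cov Γ(X, ⊤) fs) ((Scheme.Modules.pushforward X.toSpecΓ).obj F).presheaf :=
  gcmpIso (Opens.map X.toSpecΓ.base) F.presheaf (cov Γ(X, ⊤) fs) (covX X fs)
    (fun n a => eqToIso (preimage_prod X fs n a)) (fun _ _ _ => Subsingleton.elim _ _)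

/-- global sections as a module over global functions. -/
noncomputable abbrev secMod : ModuleCat.{u} Γ(X, ⊤) := ModuleCat.of Γ(X, ⊤) (F.val.obj (op ⊤))

/-- the direct image on `Spec Γ(X, O)`. -/
noncomputable abbrev Gp : (Spec Γ(X, ⊤)).Modules := (Scheme.Modules.pushforward X.toSpecΓ).obj F

lemma smul_eq (r : Γ(X, ⊤)) (x : F.val.obj (op ⊤)) :
    (r • (show Γ(Gp X F, ⊤) from x) : Γ(Gp X F, ⊤)) = (r • x : F.val.obj (op ⊤)) := by
  rw [Scheme.Modules.smul_Spec_def, QC.pushforward_smul]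
  have h : X.toSpecΓ.app ⊤ (((Spec Γ(X, ⊤)).presheaf.map (⊤ : (Spec Γ(X, ⊤)).Opens).leTop.op)
      ((Scheme.ΓSpecIso Γ(X, ⊤)).inv r)) = r := by
    have h1 : ((Spec Γ(X, ⊤)).presheaf.map (⊤ : (Spec Γ(X, ⊤)).Opens).leTop.op) = 𝟙 _ :=
      (Spec Γ(X, ⊤)).presheaf.map_id _
    rw [h1]
    have h2 := Scheme.toSpecΓ_appTop X
    have h3 : X.toSpecΓ.app ⊤ = (Scheme.ΓSpecIso Γ(X, ⊤)).hom := h2
    rw [h3]
    exact congr($((Scheme.ΓSpecIso Γ(X, ⊤)).inv_hom_id) r)
  rw [h]
  rfl

/-- `Γ(X, F)` is the module of global sections of `π_* F`. -/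
noncomputable def secModEquiv :
    (secMod X F) ≃ₗ[Γ(X, ⊤)] Γ(Gp X F, ⊤) :=
  { toFun := fun x => x
    invFun := fun x => x
    map_add' := fun _ _ => rfl
    map_smul' := fun r x => (smul_eq X F r x).symm
    left_inv := fun _ => rfl
    right_inv := fun _ => rfl }

/-- `Γ(X, F)` is the module of global sections of `π_* F`. -/
noncomputable def secModIso :
    secMod X F ≅ (modulesSpecToSheaf.obj (Gp X F)).presheaf.obj (op ⊤) :=
  LinearEquiv.toModuleIso (X₂ := (modulesSpecToSheaf.obj (Gp X F)).presheaf.obj (op ⊤))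
    (secModEquiv X F)

variable [CompactSpace X] [QuasiSeparatedSpace X] [F.IsQuasicoherent]

instance : (Gp X F).IsQuasicoherent := QC.qc_pushforward X.toSpecΓ F

/-- `π_* F` is the sheaf associated with `Γ(X, F)`. -/
noncomputable def tildeIso : tilde (secMod X F) ≅ Gp X F :=
  (tilde.functor Γ(X, ⊤)).mapIso (secModIso X F) ≪≫
    @asIso _ _ _ _ (Gp X F).fromTildeΓ (Scheme.Modules.isIso_fromTildeΓ_of_isQuasicoherent _)

/-- the Čech complex of `F` for the basic opens `X_{f_i}` is the Čech complex of `Γ(X, F)~` on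
`Spec Γ(X, O)` for the basic opens `D(f_i)`. -/
noncomputable def cechIso :
    K (covX X fs) F.presheaf ≅ (tC Γ(X, ⊤) fs).obj (secMod X F) :=
  cechPushIso X fs F ≪≫
    ((cechComplexFunctor (cov Γ(X, ⊤) fs)).mapIso
      ((Scheme.Modules.toPresheaf _).mapIso (tildeIso X F))).symm

/-- Čech cohomology of `F` is Čech cohomology of `Γ(X, F)~`. -/
noncomputable def cechHEquiv (p : ℕ) :
    ((K (covX X fs) F.presheaf).homology p : AddCommGrpCat.{u}) ≃+
      (Tseq Γ(X, ⊤) fs).obj p (secMod X F) :=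
  ((HomologicalComplex.homologyFunctor _ _ p).mapIso (cechIso X fs F)).addCommGroupIsoToAddEquiv

/-- **Čech cohomology of the basic opens is direct-limit Koszul cohomology** (degree `≥ 1`). -/
theorem nonempty_cechH_equiv (p : ℕ) :
    Nonempty (((K (covX X fs) F.presheaf).homology (p + 1) : AddCommGrpCat.{u}) ≃+
      koszulHLim fs (secMod X F) (p + 2)) := by
  obtain ⟨e⟩ := nonempty_cech_equiv_koszulHLim Γ(X, ⊤) fs (secMod X F) p
  exact ⟨(cechHEquiv X fs F (p + 1)).trans e⟩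

end Groth.Agent.H8.CK
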