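import Groth.Agent.Lib.Helper8.CK.GeoAff

/-! # Kernel and cokernel of the restriction to the union of the basic opens -/

universe u
open CategoryTheory Limits Opposite TopologicalSpace AlgebraicGeometry

namespace Groth.Agent.H8.CK

open Groth.Agent.LD Groth.Agent.LD.CH CohIII

section generic

/-- the kernel of `α` is `Kr` and its cokernel is `Ck` (existence of additive isomorphisms). -/
def KC {A B : Type*} [AddCommGroup A] [AddCommGroup B] (α : A →+ B) (Kr Ck : Type*)
    [AddCommGroup Kr] [AddCommGroup Ck] : Prop :=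
  Nonempty (α.ker ≃+ Kr) ∧ Nonempty ((B ⧸ α.range) ≃+ Ck)

lemma KC_of_comm {A B A' B' : Type*} [AddCommGroup A] [AddCommGroup B] [AddCommGroup A']
    [AddCommGroup B'] (α : A →+ B) (β : A' →+ B') (a : A ≃+ A') (b : B ≃+ B')
    (comm : ∀ x, b (α x) = β (a x)) {Kr Ck : Type*} [AddCommGroup Kr] [AddCommGroup Ck]
    (h : KC β Kr Ck) : KC α Kr Ck := by
  obtain ⟨⟨e1⟩, ⟨e2⟩⟩ := h
  constructor
  · have hmap : ∀ x : α.ker, a x.1 ∈ β.ker := by
      intro x
      rw [AddMonoidHom.mem_ker, ← comm, x.2, map_zero]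
    let φ : α.ker →+ β.ker :=
      AddMonoidHom.codRestrict (a.toAddMonoidHom.comp α.ker.subtype) _ hmap
    have hφ : Function.Bijective φ := by
      constructor
      · intro x y hxy
        apply Subtype.ext
        apply a.injective
        exact congrArg Subtype.val hxy
      · intro y
        have : a.symm y.1 ∈ α.ker := by
          rw [AddMonoidHom.mem_ker]
          apply b.injective
          rw [comm, AddEquiv.apply_symm_apply, y.2, map_zero]
        exact ⟨⟨a.symm y.1, this⟩, Subtype.ext (a.apply_symm_apply y.1)⟩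
    exact ⟨(AddEquiv.ofBijective φ hφ).trans e1⟩
  · obtain ⟨e⟩ := nonempty_coker_equiv α β a.toAddMonoidHom b.toAddMonoidHom a.surjective
      b.bijective comm
    exact ⟨e.trans e2⟩

end generic

section presheaf

variable {Y : TopCat.{u}}

/-- restriction from the whole space. -/
noncomputable abbrev resTop (P : (Opens Y)ᵒᵖ ⥤ AddCommGrpCat.{u}) (U : Opens Y) :
    P.obj (op ⊤) →+ P.obj (op U) :=
  (P.map (homOfLE (le_top : U ≤ ⊤)).op).hom

lemma KC_resTop_of_iso {P Q : (Opens Y)ᵒᵖ ⥤ AddCommGrpCat.{u}} (φ : P ≅ Q) (U : Opens Y)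
    {Kr Ck : Type*} [AddCommGroup Kr] [AddCommGroup Ck] (h : KC (resTop Q U) Kr Ck) :
    KC (resTop P U) Kr Ck := by
  refine KC_of_comm (resTop P U) (resTop Q U)
    (φ.app (op ⊤)).addCommGroupIsoToAddEquiv (φ.app (op U)).addCommGroupIsoToAddEquiv ?_ h
  intro x
  exact ConcreteCategory.congr_hom (φ.hom.naturality (homOfLE (le_top : U ≤ ⊤)).op) x

lemma KC_resTop_of_eq (P : (Opens Y)ᵒᵖ ⥤ AddCommGrpCat.{u}) {U U' : Opens Y} (hU : U = U')
    {Kr Ck : Type*} [AddCommGroup Kr] [AddCommGroup Ck] (h : KC (resTop P U') Kr Ck) :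
    KC (resTop P U) Kr Ck := by
  subst hU
  exact h

end presheaf

section affine

variable (R : CommRingCat.{u}) (fs : List R) (M : ModuleCat.{u} R)

lemma ker_eta_eq_ker_toSec :
    (eta R fs M).ker = (toSec R M (iSup (cov R fs))).ker := by
  ext m
  rw [AddMonoidHom.mem_ker, AddMonoidHom.mem_ker, ← topH0_eta]
  exact (AddEquiv.map_eq_zero_iff (topH0Equiv (cov R fs) ((tF R).obj M))).symm

lemma KC_toSec : KC (toSec R M (iSup (cov R fs))) (koszulHLim fs M 0) (koszulHLim fs M 1) := by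
  constructor
  · obtain ⟨e⟩ := nonempty_ker_eta_equiv' R fs M
    exact ⟨(AddEquiv.addSubgroupCongr (ker_eta_eq_ker_toSec R fs M).symm).trans e⟩
  · obtain ⟨e⟩ := nonempty_coker_eta_equiv R fs M
    obtain ⟨e'⟩ := nonempty_coker_equiv (toSec R M (iSup (cov R fs))) (eta R fs M)
      (AddMonoidHom.id _) (topH0Equiv (cov R fs) ((tF R).obj M)).symm.toAddMonoidHom
      (fun x => ⟨x, rfl⟩) (topH0Equiv (cov R fs) ((tF R).obj M)).symm.bijective (fun x => rfl)
    exact ⟨e'.trans e⟩

lemma bijective_toSec_top : Function.Bijective (toSec R M ⊤) := by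
  have : IsIso (tilde.toOpen M ⊤) := inferInstance
  exact (ConcreteCategory.isIso_iff_bijective (tilde.toOpen M ⊤)).1 this

/-- **affine case**: kernel and cokernel of `Γ(Spec R, M~) → Γ(⋃ D(f_i), M~)`. -/
theorem KC_resTop_tilde :
    KC (resTop (Y := (Spec R).toTopCat) ((tF R).obj M).obj (iSup (cov R fs)))
      (koszulHLim fs M 0) (koszulHLim fs M 1) := by
  refine KC_of_comm _ (toSec R M (iSup (cov R fs)))
    (AddEquiv.ofBijective (toSec R M ⊤) (bijective_toSec_top R M)).symm (AddEquiv.refl _) ?_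
    (KC_toSec R fs M)
  intro y
  obtain ⟨m, rfl⟩ := (bijective_toSec_top R M).2 y
  have h1 : (AddEquiv.ofBijective (toSec R M ⊤) (bijective_toSec_top R M)).symm
      (toSec R M ⊤ m) = m :=
    (AddEquiv.ofBijective (toSec R M ⊤) (bijective_toSec_top R M)).symm_apply_apply m
  rw [h1]
  exact toSec_res R M (homOfLE (le_top : iSup (cov R fs) ≤ ⊤)) m

end affine

section scheme

variable (X : Scheme.{u}) (fs : List Γ(X, ⊤)) (F : X.Modules)
  [CompactSpace X] [QuasiSeparatedSpace X] [F.IsQuasicoherent]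

lemma preimage_iSup_cov :
    (⨆ i : Fin fs.length, X.basicOpen (fs.get i)) =
      (Opens.map X.toSpecΓ.base).obj (iSup (cov Γ(X, ⊤) fs)) := by
  rw [← iSup_covX]
  apply le_antisymm
  · refine iSup_le fun i => ?_
    rw [← preimage_cov]
    exact (Opens.map X.toSpecΓ.base).monotone (le_iSup (cov Γ(X, ⊤) fs) i)
  · intro x hx
    have hx' : X.toSpecΓ.base x ∈ (iSup (cov Γ(X, ⊤) fs) : (Spec Γ(X, ⊤)).Opens) := hx
    rw [Opens.mem_iSup] at hx' ⊢
    obtain ⟨i, hi⟩ := hx'
    refine ⟨i, ?_⟩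
    rw [← preimage_cov]
    exact hi

/-- **kernel and cokernel of the restriction to the union of the `X_{f_i}`.** -/
theorem KC_resTop_scheme :
    KC (resTop (Y := X.toTopCat) (Coh.toAb F).obj (⨆ i : Fin fs.length, X.basicOpen (fs.get i)))
      (koszulHLim fs (secMod X F) 0) (koszulHLim fs (secMod X F) 1) := by
  apply KC_resTop_of_eq (Y := X.toTopCat) _ (preimage_iSup_cov X fs)
  have h1 := KC_resTop_tilde Γ(X, ⊤) fs (secMod X F)
  have h2 := KC_resTop_of_iso (Y := (Spec Γ(X, ⊤)).toTopCat)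
    ((Scheme.Modules.toPresheaf _).mapIso (tildeIso X F)).symm (iSup (cov Γ(X, ⊤) fs)) h1
  exact h2

end scheme

end Groth.Agent.H8.CK
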