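import Groth.Agent.Lib.Helper8.CK.HZshLoc
import Groth.Agent.Lib.Helper1.Depth2Coh
import Groth.Agent.Lib.Helper6.DepthInf
import Groth.Agent.Lib.Lead.LCZ.Main

/-! # Vanishing of local cohomology sheaves below the depth along the support -/

universe u
open CategoryTheory Limits Opposite TopologicalSpace AlgebraicGeometry

namespace Groth.Agent.H8.CK

open Groth.Agent.LD Groth.Agent.LD.CH CohIII Groth.Agent.LD.QC

variable {X : Scheme.{u}} [IsLocallyNoetherian X] (F : X.Modules) [F.IsQuasicoherent]
  (hF : F.IsFiniteType) (U : X.Opens)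

include hF in
/-- affine-local criterion: vanishing of cohomology with supports below `n` over an affine open
is the depth condition at the points of the support in that open. -/
theorem subsingleton_HZ_affine_iff {V : X.Opens} (hV : IsAffineOpen V) (n : ℕ) :
    (∀ i : ℕ, i < n →
        Subsingleton (LocCohZ.HZ (X := X.toTopCat) (Coh.toAb F) i (inf_le_left : V ⊓ U ≤ V))) ↔
      ∀ x : X, x ∈ V → x ∉ U →
        (n : ℕ∞) ≤ LocCoh.depth (X.presheaf.stalk x) (F.presheaf.stalk x) := by
  have : IsNoetherianRing Γ(X, V) := IsLocallyNoetherian.component_noetherian ⟨V, hV⟩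
  have : Module.Finite Γ(X, V) Γ(F, V) := finite_sections_of_isFiniteType F hF hV
  have : Module.Finite Γ(X, V) Γ(F.restrict hV.fromSpec, ⊤) :=
    Module.Finite.equiv (Groth.Agent.H1.Depth2Coh.topEquiv F hV)
  obtain ⟨fs, hfs⟩ := exists_list_preimage_eq hV U
  have step1 : (∀ i : ℕ, i < n →
      Subsingleton (LocCohZ.HZ (X := X.toTopCat) (Coh.toAb F) i (inf_le_left : V ⊓ U ≤ V))) ↔
      ∀ i : ℕ, i < n → Subsingleton (LocCoh.H (Ideal.span {a | a ∈ fs}) i
        Γ(F.restrict hV.fromSpec, ⊤)) := by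
    refine forall₂_congr fun i _ => ?_
    obtain ⟨e⟩ := nonempty_HZ_equiv_lc hV U F fs hfs i
    constructor
    · intro h
      exact @Equiv.subsingleton _ _ e.symm.toEquiv h
    · intro h
      have h' : Subsingleton ((localCohomology (Ideal.span {a | a ∈ fs}) i).obj (secV F hV)) := h
      exact @Equiv.subsingleton _ _ e.toEquiv h'
  rw [step1, ← Groth.Agent.H6.Depth.le_idealDepth_iff, Groth.Agent.H6.Depth.idealDepth_eq_iInf,
    le_iInf₂_iff]
  constructor
  · intro h x hxV hxU
    have hp : hV.fromSpec (hV.primeIdealOf ⟨x, hxV⟩) = x := hV.fromSpec_primeIdealOf ⟨x, hxV⟩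
    have hle := (span_le_iff_notMem hV U fs hfs (hV.primeIdealOf ⟨x, hxV⟩)).2 (by rwa [hp])
    have h1 := h _ hle
    rw [← Groth.Agent.H1.Depth2Coh.depth_eq F hF hV _ (by rw [hp]; exact hxV)] at h1
    have key : ∀ (y : X) (hy : y = x),
        (n : ℕ∞) ≤ LocCoh.depth (X.presheaf.stalk y) (F.presheaf.stalk y) →
        (n : ℕ∞) ≤ LocCoh.depth (X.presheaf.stalk x) (F.presheaf.stalk x) := by
      intro y hy h
      subst hy
      exact h
    exact key _ hp h1
  · intro h p hp
    have hxV := fromSpec_mem' hV p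
    have hxU := (span_le_iff_notMem hV U fs hfs p).1 hp
    rw [← Groth.Agent.H1.Depth2Coh.depth_eq F hF hV p hxV]
    exact h _ hxV hxU

include hF in
/-- **vanishing of the local cohomology sheaves below `n` is the depth condition along the
support.** -/
theorem isZero_HZsh_lt_iff_depth (n : ℕ) :
    (∀ i : ℕ, i < n → IsZero ((LocCohZ.HZsh (X := X.carrier) U i).obj (Coh.toAb F))) ↔
      ∀ x : X, x ∉ (U : Set X) →
        (n : ℕ∞) ≤ LocCoh.depth (X.presheaf.stalk x) (F.presheaf.stalk x) := by
  constructor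
  · intro h x hx
    rw [LCZ.isZero_HZsh_iff (X := X.toTopCat)] at h
    obtain ⟨V, hV, hxV, -⟩ :=
      Opens.isBasis_iff_nbhd.1 X.isBasis_affineOpens (show x ∈ (⊤ : X.Opens) from trivial)
    exact (subsingleton_HZ_affine_iff F hF U hV n).1 (fun i hi => h V i hi) x hxV hx
  · intro h i hi
    apply isZero_HZsh_of_basis (X := X.toTopCat) (Coh.toAb F) U {V | IsAffineOpen V}
    · intro W x hx
      exact Opens.isBasis_iff_nbhd.1 X.isBasis_affineOpens hx
    · intro V hV
      exact (subsingleton_HZ_affine_iff F hF U hV n).2 (fun x _ hxU => h x hxU) i hi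

end Groth.Agent.H8.CK
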