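import Groth.Agent.Lib.Helper8.LC.Vanishing

/-! # Vanishing of local cohomology above the local dimensions along the support -/

universe u
open CategoryTheory Limits

namespace Groth.Agent.H8.CK

variable {A : Type u} [CommRing A] [IsNoetherianRing A]

lemma wb_add_one_le_of_lt (x : WithBot ℕ∞) (i : ℕ) (h : x < (i : WithBot ℕ∞)) :
    x + 1 ≤ (i : WithBot ℕ∞) := by
  induction x using WithBot.recBotCoe with
  | bot => exact bot_le
  | coe y =>
    have h' : y < (i : ℕ∞) := by exact_mod_cast h
    have : y + 1 ≤ (i : ℕ∞) := Order.add_one_le_of_lt h'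
    exact_mod_cast this

/-- if `dim A_p < i` for all primes `p ⊇ I` then `H^i_I(M) = 0`. -/
theorem lc_isZero_of_forall_dim_lt (I : Ideal A) (M : ModuleCat.{u} A) (i : ℕ)
    (h : ∀ p : PrimeSpectrum A, I ≤ p.asIdeal →
      ringKrullDim (Localization.AtPrime p.asIdeal) < (i : WithBot ℕ∞)) :
    IsZero ((localCohomology I i).obj M) := by
  rw [ModuleCat.isZero_iff_subsingleton, ← Module.support_eq_empty_iff (R := A)]
  rw [Set.eq_empty_iff_forall_notMem]
  intro p hp
  rw [Module.mem_support_iff] at hp
  have hz : IsZero ((localCohomology (I.map (algebraMap A (Localization.AtPrime p.asIdeal))) i).obj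
      (ModuleCat.of _ (LocalizedModule p.asIdeal.primeCompl M))) := by
    by_cases hIp : I ≤ p.asIdeal
    · exact LC.grothendieck_vanishing_aux i _ (wb_add_one_le_of_lt _ i (h p hIp)) _ _ i le_rfl
    · have htop : I.map (algebraMap A (Localization.AtPrime p.asIdeal)) = ⊤ := by
        obtain ⟨a, haI, hap⟩ := Set.not_subset.1 hIp
        apply Ideal.eq_top_of_isUnit_mem _ (Ideal.mem_map_of_mem _ haI)
        exact IsLocalization.map_units (Localization.AtPrime p.asIdeal)
          (⟨a, hap⟩ : p.asIdeal.primeCompl)
      rw [htop]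
      exact LC.lc_isZero_top _ i
  have hsub := ModuleCat.subsingleton_of_isZero hz
  have := (LC.lcLocalizationEquiv I p.asIdeal.primeCompl M i).toEquiv.subsingleton
  exact not_nontrivial _ hp

end Groth.Agent.H8.CK
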