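import Groth.Agent.Lib.Helper8.CK.AffOpen
import Groth.Agent.Lib.Helper8.CK.HZshBasis
import Groth.Agent.Lib.Helper8.CK.KLC
import Groth.Agent.Lib.Helper8.CK.FlasqueIff
import Groth.Agent.Lib.Helper8.CK.LocVan

/-! # Local cohomology sheaves on locally Noetherian schemes via local cohomology modules -/

universe u
open CategoryTheory Limits Opposite TopologicalSpace AlgebraicGeometry

namespace Groth.Agent.H8.CK

open Groth.Agent.LD Groth.Agent.LD.CH CohIII

variable {X : Scheme.{u}} {V : X.Opens} (hV : IsAffineOpen V) (U : X.Opens)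

lemma fromSpec_mem' (p : PrimeSpectrum Γ(X, V)) : hV.fromSpec p ∈ V := by
  have : hV.fromSpec p ∈ hV.fromSpec.opensRange := ⟨p, rfl⟩
  rwa [hV.opensRange_fromSpec] at this

lemma exists_list_preimage_eq [IsLocallyNoetherian X] :
    ∃ fs : List Γ(X, V), hV.fromSpec ⁻¹ᵁ (V ⊓ U) = iSup (cov Γ(X, V) fs) := by
  have : IsNoetherianRing Γ(X, V) := IsLocallyNoetherian.component_noetherian ⟨V, hV⟩
  exact exists_list_eq_iSup_cov Γ(X, V) _

lemma span_le_iff_notMem (fs : List Γ(X, V))
    (hfs : hV.fromSpec ⁻¹ᵁ (V ⊓ U) = iSup (cov Γ(X, V) fs)) (p : PrimeSpectrum Γ(X, V)) :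
    Ideal.span {a | a ∈ fs} ≤ p.asIdeal ↔ hV.fromSpec p ∉ U := by
  have h1 : hV.fromSpec p ∈ U ↔ ∃ k : ULift.{u} (Fin fs.length), fs.get k.down ∉ p.asIdeal := by
    have h2 : hV.fromSpec p ∈ U ↔
        (show ↥(Spec Γ(X, V)) from p) ∈ hV.fromSpec ⁻¹ᵁ (V ⊓ U) :=
      ⟨fun h => ⟨fromSpec_mem' hV p, h⟩, fun h => h.2⟩
    rw [h2, hfs, Opens.mem_iSup]
    rfl
  rw [h1, Ideal.span_le]
  constructor
  · rintro h ⟨k, hk⟩
    exact hk (h (List.get_mem _ _))
  · intro h a ha
    by_contra hap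
    obtain ⟨k, rfl⟩ := List.get_of_mem ha
    exact h ⟨⟨k⟩, hap⟩

variable [IsLocallyNoetherian X] (F : X.Modules) [F.IsQuasicoherent]

/-- over an affine open of a locally Noetherian scheme, cohomology with supports is local
cohomology of the module of sections. -/
theorem nonempty_HZ_equiv_lc (fs : List Γ(X, V))
    (hfs : hV.fromSpec ⁻¹ᵁ (V ⊓ U) = iSup (cov Γ(X, V) fs)) (i : ℕ) :
    Nonempty (LocCohZ.HZ (X := X.toTopCat) (Coh.toAb F) i (inf_le_left : V ⊓ U ≤ V) ≃+
      (localCohomology (Ideal.span {a | a ∈ fs}) i).obj (secV F hV)) := by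
  have : IsNoetherianRing Γ(X, V) := IsLocallyNoetherian.component_noetherian ⟨V, hV⟩
  obtain ⟨e1⟩ := nonempty_HZ_affineOpen_equiv F hV inf_le_left fs hfs i
  obtain ⟨e2⟩ := nonempty_lc_linearEquiv_koszulHLim fs (secV F hV) i
  exact ⟨e1.trans e2.symm.toAddEquiv⟩

omit [IsLocallyNoetherian X] in
/-- the local ring at a point of an affine open is the localization of the ring of sections. -/
lemma ringKrullDim_stalk_eq (p : PrimeSpectrum Γ(X, V)) :
    ringKrullDim (X.presheaf.stalk (hV.fromSpec p)) =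
      ringKrullDim (Localization.AtPrime p.asIdeal) := by
  have hp := fromSpec_mem' hV p
  let _ : Algebra Γ(X, V) (X.presheaf.stalk (hV.fromSpec p)) :=
    TopCat.Presheaf.algebra_section_stalk X.presheaf ⟨hV.fromSpec p, hp⟩
  have : IsLocalization.AtPrime (X.presheaf.stalk (hV.fromSpec p)) p.asIdeal :=
    hV.isLocalization_stalk' p hp
  exact ringKrullDim_eq_of_ringEquiv
    (IsLocalization.algEquiv p.asIdeal.primeCompl (X.presheaf.stalk (hV.fromSpec p))
      (Localization.AtPrime p.asIdeal)).toRingEquiv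

/-- **vanishing of local cohomology sheaves above the local dimensions along the support.** -/
theorem isZero_HZsh_of_dim_lt (i : ℕ)
    (hi : ∀ x : X, x ∉ (U : Set X) → ringKrullDim (X.presheaf.stalk x) < (i : WithBot ℕ∞)) :
    IsZero ((LocCohZ.HZsh (X := X.carrier) U i).obj (Coh.toAb F)) := by
  apply isZero_HZsh_of_basis (X := X.toTopCat) (Coh.toAb F) U {V | IsAffineOpen V}
  · intro W x hx
    exact Opens.isBasis_iff_nbhd.1 X.isBasis_affineOpens hx
  · intro V hV
    have : IsNoetherianRing Γ(X, V) := IsLocallyNoetherian.component_noetherian ⟨V, hV⟩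
    obtain ⟨fs, hfs⟩ := exists_list_preimage_eq hV U
    obtain ⟨e⟩ := nonempty_HZ_equiv_lc hV U F fs hfs i
    have hz : IsZero ((localCohomology (Ideal.span {a | a ∈ fs}) i).obj (secV F hV)) := by
      apply lc_isZero_of_forall_dim_lt
      intro p hp
      rw [← ringKrullDim_stalk_eq hV p]
      exact hi _ ((span_le_iff_notMem hV U fs hfs p).1 hp)
    have hsub := ModuleCat.subsingleton_of_isZero hz
    exact e.toEquiv.subsingleton

end Groth.Agent.H8.CK
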