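import Groth.Agent.Lib.Helper8.CK.KLim
import Groth.Agent.Lib.Helper8.LC.Delta

/-! # The direct-limit Koszul cohomology as a δ-functor -/

universe u
open CategoryTheory Limits CohIII Groth.Agent.H2.Kos HomologicalComplex

namespace Groth.Agent.H8.CK

variable {A : Type u} [CommRing A] (fs : List A)

lemma hlMap_of {M N : ModuleCat.{u} A} (g : M ⟶ N) (j : ℤ) (n : ℕ) (x : HP fs M j n) :
    hlMap fs g j (Module.DirectLimit.of A ℕ (fun n => (HP fs M j n : Type u)) (tr fs M j) n x) =
      Module.DirectLimit.of A ℕ (fun n => (HP fs N j n : Type u)) (tr fs N j) n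
        (hpMap fs g j n x) :=
  Module.DirectLimit.map_apply_of (fun n => hpMap fs g j n)
    (fun n m h => hpMap_tr fs g j n m h) x

lemma hlMap_id (M : ModuleCat.{u} A) (j : ℤ) : hlMap fs (𝟙 M) j = LinearMap.id := by
  apply LinearMap.ext
  intro y
  induction y using Module.DirectLimit.induction_on with
  | ih n x =>
    rw [hlMap_of]
    have h1 : hpMap fs (𝟙 M) j n x = x := by
      change (homologyMap (kmap (𝟙 M) (pw fs n)) j).hom x = x
      rw [kmap_id', homologyMap_id]
      rfl
    rw [h1]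
    rfl

lemma hlMap_comp {M N P : ModuleCat.{u} A} (g : M ⟶ N) (h : N ⟶ P) (j : ℤ) :
    hlMap fs (g ≫ h) j = hlMap fs h j ∘ₗ hlMap fs g j := by
  apply LinearMap.ext
  intro y
  induction y using Module.DirectLimit.induction_on with
  | ih n x =>
    rw [LinearMap.comp_apply, hlMap_of, hlMap_of, hlMap_of]
    have h1 : hpMap fs (g ≫ h) j n x = hpMap fs h j n (hpMap fs g j n x) := by
      change (homologyMap (kmap (g ≫ h) (pw fs n)) j).hom x = _
      rw [kmap_comp, homologyMap_comp]
      rfl
    rw [h1]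

lemma hlMap_comp_apply {M N P : ModuleCat.{u} A} (g : M ⟶ N) (h : N ⟶ P) (j : ℤ)
    (y : HL fs M j) : hlMap fs (g ≫ h) j y = hlMap fs h j (hlMap fs g j y) := by
  rw [hlMap_comp]
  rfl

/-- a retract of a module with vanishing direct-limit Koszul cohomology has vanishing
direct-limit Koszul cohomology. -/
lemma subsingleton_HL_of_retract {M E : ModuleCat.{u} A} (i : M ⟶ E) (r : E ⟶ M)
    (hir : i ≫ r = 𝟙 M) (j : ℤ) (h : Subsingleton (HL fs E j)) : Subsingleton (HL fs M j) := by
  refine ⟨fun a b => ?_⟩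
  have key : ∀ y : HL fs M j, y = hlMap fs r j (hlMap fs i j y) := by
    intro y
    rw [← hlMap_comp_apply, hir, hlMap_id]
    rfl
  rw [key a, key b, Subsingleton.elim (hlMap fs i j a) (hlMap fs i j b)]

section delta

variable {S S' : ShortComplex (ModuleCat.{u} A)} (hS : S.ShortExact) (hS' : S'.ShortExact)
  (φ : S ⟶ S')

/-- the morphism of short complexes of Koszul complexes induced by a morphism of short
complexes of modules. -/
noncomputable def kSCmap (l : List A) : kSC S l ⟶ kSC S' l where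
  τ₁ := kmap φ.τ₁ l
  τ₂ := kmap φ.τ₂ l
  τ₃ := kmap φ.τ₃ l
  comm₁₂ := by
    change kmap φ.τ₁ l ≫ kmap S'.f l = kmap S.f l ≫ kmap φ.τ₂ l
    rw [← kmap_comp, ← kmap_comp, φ.comm₁₂]
  comm₂₃ := by
    change kmap φ.τ₂ l ≫ kmap S'.g l = kmap S.g l ≫ kmap φ.τ₃ l
    rw [← kmap_comp, ← kmap_comp, φ.comm₂₃]

lemma hlδ_of (i j : ℤ) (hij : i + 1 = j) (n : ℕ) (x : HP fs S.X₃ i n) :
    hlδ fs S hS i j hij
      (Module.DirectLimit.of A ℕ (fun n => (HP fs S.X₃ i n : Type u)) (tr fs S.X₃ i) n x) =
      Module.DirectLimit.of A ℕ (fun n => (HP fs S.X₁ j n : Type u)) (tr fs S.X₁ j) n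
        (((kSC_shortExact S hS (pw fs n)).δ i j hij).hom x) :=
  Module.DirectLimit.map_apply_of (fun n => ((kSC_shortExact S hS (pw fs n)).δ i j hij).hom)
    (fun n m h => δ_tr fs S hS i j hij n m h) x

lemma hlδ_naturality (i j : ℤ) (hij : i + 1 = j) (y : HL fs S.X₃ i) :
    hlMap fs φ.τ₁ j (hlδ fs S hS i j hij y) = hlδ fs S' hS' i j hij (hlMap fs φ.τ₃ i y) := by
  induction y using Module.DirectLimit.induction_on with
  | ih n x =>
    rw [hlδ_of, hlMap_of, hlMap_of, hlδ_of]
    congr 1
    have h1 := HomologicalComplex.HomologySequence.δ_naturality (kSCmap φ (pw fs n))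
      (kSC_shortExact S hS (pw fs n)) (kSC_shortExact S' hS' (pw fs n)) i j hij
    exact ConcreteCategory.congr_hom h1 x

end delta

/-- the degree-`n` direct-limit Koszul cohomology functor. -/
noncomputable def kosF (n : ℕ) : ModuleCat.{u} A ⥤ ModuleCat.{u} A where
  obj M := ModuleCat.of A (HL fs M ((n : ℤ) - fs.length))
  map g := ModuleCat.ofHom (hlMap fs g _)
  map_id M := by
    rw [hlMap_id]
    rfl
  map_comp g h := by
    rw [hlMap_comp]
    rfl

/-- the direct-limit Koszul cohomology as a δ-functor. -/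
noncomputable def kosDelta : LC.DeltaFunctor (ModuleCat.{u} A) (ModuleCat.{u} A) where
  F := kosF fs
  δ {S} hS n := ModuleCat.ofHom (hlδ fs S hS ((n : ℤ) - fs.length) (((n + 1 : ℕ) : ℤ) - fs.length)
    (by push_cast; ring))
  δ_naturality {S S'} hS hS' φ n := by
    apply ModuleCat.hom_ext
    apply LinearMap.ext
    intro y
    exact hlδ_naturality fs hS hS' φ _ _ _ y
  map_comp_map {S} hS n := by
    apply ModuleCat.hom_ext
    apply LinearMap.ext
    intro y
    exact (hl_exact₂ fs S hS _).apply_apply_eq_zero y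
  map_comp_δ {S} hS n := by
    apply ModuleCat.hom_ext
    apply LinearMap.ext
    intro y
    exact (hl_exact₃ fs S hS _ _ _).apply_apply_eq_zero y
  δ_comp_map {S} hS n := by
    apply ModuleCat.hom_ext
    apply LinearMap.ext
    intro y
    exact (hl_exact₁ fs S hS _ _ _).apply_apply_eq_zero y
  mono₀ {S} hS := by
    rw [ModuleCat.mono_iff_injective]
    exact hlMap_injective_bottom fs S hS _ (by simp)
  exact₂ {S} hS n := by
    rw [ShortComplex.ShortExact.moduleCat_exact_iff_function_exact]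
    exact hl_exact₂ fs S hS _
  exact₃ {S} hS n := by
    rw [ShortComplex.ShortExact.moduleCat_exact_iff_function_exact]
    exact hl_exact₃ fs S hS _ _ _
  exact₁ {S} hS n := by
    rw [ShortComplex.ShortExact.moduleCat_exact_iff_function_exact]
    exact hl_exact₁ fs S hS _ _ _

end Groth.Agent.H8.CK
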