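import Groth.Agent.Lib.Helper8.CK.CechEta

/-! # The two short exact sequences for dimension shifting, and the affine main theorem -/

universe u
open CategoryTheory Limits Opposite TopologicalSpace AlgebraicGeometry

namespace Groth.Agent.H8.CK

open Groth.Agent.LD Groth.Agent.LD.CH CohIII

variable (R : CommRingCat.{u}) (fs : List R)

/-- the product of the localizations of `M` at the elements of a list. -/
noncomputable def Eprod (M : ModuleCat.{u} R) : List R → ModuleCat.{u} R
  | [] => ModuleCat.of R PUnit.{u+1}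
  | g :: gs => ModuleCat.of R (LocalizedModule (Submonoid.powers g) M × Eprod M gs)

/-- the diagonal map into the product of localizations. -/
noncomputable def jmap (M : ModuleCat.{u} R) : ∀ gs : List R, M ⟶ Eprod R M gs
  | [] => 0
  | g :: gs => ModuleCat.ofHom
      ((LocalizedModule.mkLinearMap (Submonoid.powers g) M).prod (jmap M gs).hom)

lemma jmap_eq_zero_iff (M : ModuleCat.{u} R) (gs : List R) (m : M) :
    (jmap R M gs).hom m = 0 ↔ m ∈ torsSub gs M := by
  induction gs with
  | nil =>
    constructor
    · intro _ f hf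
      simp at hf
    · intro _
      rfl
  | cons g gs ih =>
    change ((LocalizedModule.mkLinearMap (Submonoid.powers g) M) m, (jmap R M gs).hom m) = 0 ↔ _
    rw [Prod.mk_eq_zero, ih, IsLocalizedModule.eq_zero_iff (Submonoid.powers g)]
    constructor
    · rintro ⟨⟨⟨_, k, rfl⟩, hk⟩, h2⟩ f hf
      rcases List.mem_cons.mp hf with rfl | hf'
      · exact ⟨k, hk⟩
      · exact h2 f hf'
    · intro h
      obtain ⟨k, hk⟩ := h g (List.mem_cons_self ..)
      exact ⟨⟨⟨_, k, rfl⟩, hk⟩, fun f hf => h f (List.mem_cons_of_mem _ hf)⟩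

theorem isGood_Eprod (M : ModuleCat.{u} R) :
    ∀ gs : List R, (∀ g ∈ gs, g ∈ fs) → IsGood (Tseq R fs) (Hseq fs) (eta R fs) (Eprod R M gs) := by
  intro gs
  induction gs with
  | nil =>
    intro _
    have : Subsingleton (Eprod R M []) := inferInstanceAs (Subsingleton PUnit.{u+1})
    apply isGood_of_subsingleton
    · apply isTorsLike_of_locNil
      intro f _ x
      exact ⟨0, Subsingleton.elim _ _⟩
    · exact nonempty_ker_eta_equiv R fs _
  | cons g gs ih =>
    intro hgs
    have ih' := ih (fun g' hg' => hgs g' (List.mem_cons_of_mem _ hg'))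
    obtain ⟨i, hi⟩ := List.mem_iff_get.mp (hgs g (List.mem_cons_self ..))
    let L : ModuleCat.{u} R := ModuleCat.of R (LocalizedModule (Submonoid.powers g) M)
    have hb : Function.Bijective (fun e : L => fs.get (ULift.up.{u} i).down • e) := by
      have h1 := IsLocalizedModule.map_units
        (LocalizedModule.mkLinearMap (Submonoid.powers g) M) ⟨g, Submonoid.mem_powers g⟩
      rw [Module.End.isUnit_iff] at h1
      change Function.Bijective (fun e : L => fs.get i • e)
      rw [hi]
      exact h1
    have hL := isGood_of_bijective R fs L ⟨i⟩ hb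
    let S : ShortComplex (ModuleCat.{u} R) :=
      ShortComplex.mk (ModuleCat.ofHom (LinearMap.inl R L (Eprod R M gs)))
        (ModuleCat.ofHom (LinearMap.snd R L (Eprod R M gs))) (by ext; simp)
    have hS : S.ShortExact := by
      apply ModuleCat.shortComplex_shortExact
      · intro y
        constructor
        · intro hy
          exact ⟨y.1, Prod.ext rfl hy.symm⟩
        · rintro ⟨x, rfl⟩
          rfl
      · exact LinearMap.inl_injective
      · exact LinearMap.snd_surjective
    exact isGood_of_shortExact (Tseq R fs) (Hseq fs) (eta R fs) (eta_natural R fs) S hS hL ih'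

lemma torsSub_quotient_eq_bot (M : Type u) [AddCommGroup M] [Module R M] :
    torsSub fs (M ⧸ torsSub fs M) = ⊥ := by
  rw [eq_bot_iff]
  intro y hy
  obtain ⟨x, rfl⟩ := Submodule.Quotient.mk_surjective _ y
  rw [Submodule.mem_bot, Submodule.Quotient.mk_eq_zero]
  intro f hf
  obtain ⟨k, hk⟩ := hy f hf
  rw [← Submodule.Quotient.mk_smul, Submodule.Quotient.mk_eq_zero] at hk
  obtain ⟨k', hk'⟩ := hk f hf
  exact ⟨k' + k, by rw [pow_add, mul_smul, hk']⟩

theorem hasShift (M : ModuleCat.{u} R) : HasShift (Tseq R fs) (Hseq fs) (eta R fs) M := by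
  let N : ModuleCat.{u} R := ModuleCat.of R (torsSub fs M)
  let M' : ModuleCat.{u} R := ModuleCat.of R (M ⧸ torsSub fs M)
  let i : N ⟶ M := ModuleCat.ofHom (torsSub fs M).subtype
  let π : M ⟶ M' := ModuleCat.ofHom (torsSub fs M).mkQ
  let E : ModuleCat.{u} R := Eprod R M' fs
  let j : M' ⟶ E := jmap R M' fs
  let Q : ModuleCat.{u} R := ModuleCat.of R (E ⧸ LinearMap.range j.hom)
  let ρ : E ⟶ Q := ModuleCat.ofHom (LinearMap.range j.hom).mkQ
  have w : i ≫ π = 0 := by
    ext x
    change (torsSub fs M).mkQ x.1 = 0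
    exact (Submodule.Quotient.mk_eq_zero _).2 x.2
  have w' : j ≫ ρ = 0 := by
    apply ModuleCat.hom_ext
    apply LinearMap.ext
    intro x
    change (LinearMap.range j.hom).mkQ (j.hom x) = 0
    exact (Submodule.Quotient.mk_eq_zero _).2 ⟨x, rfl⟩
  refine ⟨N, M', E, Q, i, π, w, j, ρ, w', ?_, ?_, ?_, ?_⟩
  · apply ModuleCat.shortComplex_shortExact
    · exact LinearMap.exact_subtype_mkQ (torsSub fs M)
    · exact Submodule.subtype_injective _
    · exact Submodule.mkQ_surjective _
  · apply ModuleCat.shortComplex_shortExact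
    · exact LinearMap.exact_map_mkQ_range j.hom
    · change Function.Injective j.hom
      rw [injective_iff_map_eq_zero]
      intro m hm
      have := (jmap_eq_zero_iff R M' fs m).1 hm
      rw [torsSub_quotient_eq_bot] at this
      exact this
    · exact Submodule.mkQ_surjective _
  · apply isTorsLike_of_locNil
    intro f hf x
    obtain ⟨k, hk⟩ := x.2 f hf
    exact ⟨k, Subtype.ext hk⟩
  · exact isGood_Eprod R fs M' fs (fun g hg => hg)

/-- **Main theorem (affine case), cokernel part.** -/
theorem nonempty_coker_eta_equiv (M : ModuleCat.{u} R) :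
    Nonempty (((Tseq R fs).obj 0 M ⧸ (eta R fs M).range) ≃+ koszulHLim fs M 1) :=
  nonempty_coker_equiv_H1 (Tseq R fs) (Hseq fs) (eta R fs) (eta_natural R fs) (hasShift R fs)
    (nonempty_ker_eta_equiv R fs) M

/-- **Main theorem (affine case), higher degrees.** -/
theorem nonempty_cech_equiv_koszulHLim (M : ModuleCat.{u} R) (p : ℕ) :
    Nonempty ((Tseq R fs).obj (p + 1) M ≃+ koszulHLim fs M (p + 2)) :=
  nonempty_equiv_succ (Tseq R fs) (Hseq fs) (eta R fs) (eta_natural R fs) (hasShift R fs)
    (nonempty_ker_eta_equiv R fs) p M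

/-- kernel part. -/
theorem nonempty_ker_eta_equiv' (M : ModuleCat.{u} R) :
    Nonempty ((eta R fs M).ker ≃+ koszulHLim fs M 0) :=
  nonempty_ker_eta_equiv R fs M

end Groth.Agent.H8.CK
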