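import Groth.Agent.Lib.Helper8.CK.KFunct
import Groth.Agent.Lib.Helper8.CK.Shift
import Groth.Agent.Lib.Helper8.LC.T1

/-! # Direct-limit Koszul cohomology of an injective module over a Noetherian ring vanishes -/

universe u
open CategoryTheory Limits CohIII Groth.Agent.H2.Kos HomologicalComplex

namespace Groth.Agent.H8.CK

variable {A : Type u} [CommRing A]

lemma tors_span_eq_torsSub (fs : List A) (M : Type u) [AddCommGroup M] [Module A M] :
    LC.tors (Ideal.span {a | a ∈ fs}) M = torsSub fs M := by
  induction fs with
  | nil =>
    ext m
    constructor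
    · intro _ f hf
      simp at hf
    · intro _
      refine ⟨1, fun a ha => ?_⟩
      have : a = 0 := by simpa using ha
      rw [this, zero_smul]
  | cons g gs ih =>
    have hs : Ideal.span {a | a ∈ g :: gs} = Ideal.span {a | a ∈ gs} ⊔ Ideal.span {g} := by
      rw [← Ideal.span_union]
      congr 1
      ext a
      simp
    ext m
    rw [hs, LC.mem_tors_sup_span_singleton, ih, mem_torsSub, mem_torsSub]
    constructor
    · rintro ⟨h1, h2⟩ f hf
      rcases List.mem_cons.mp hf with rfl | hf'
      · exact h2
      · exact h1 f hf'
    · intro h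
      exact ⟨fun f hf => h f (List.mem_cons_of_mem _ hf), h g (List.mem_cons_self ..)⟩

variable [IsNoetherianRing A]

/-- **Direct-limit Koszul cohomology of an injective module over a Noetherian ring vanishes in
positive degrees.** -/
theorem subsingleton_koszulHLim_of_injective (fs : List A) (E : ModuleCat.{u} A) [Injective E]
    (q : ℕ) : Subsingleton (koszulHLim fs E (q + 1)) := by
  have hMI : Module.Injective A E := Module.injective_module_of_injective_object A E
  have hTI : Module.Injective A (torsSub fs E) := by
    rw [← tors_span_eq_torsSub]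
    exact LC.tors_injective _ E
  let N : ModuleCat.{u} A := ModuleCat.of A (torsSub fs E)
  let Q : ModuleCat.{u} A := ModuleCat.of A (E ⧸ torsSub fs E)
  let S : ShortComplex (ModuleCat.{u} A) :=
    ShortComplex.mk (X₁ := N) (X₂ := E) (X₃ := Q) (ModuleCat.ofHom (torsSub fs E).subtype)
      (ModuleCat.ofHom (torsSub fs E).mkQ) (by
        ext x
        change (torsSub fs E).mkQ x.1 = 0
        exact (Submodule.Quotient.mk_eq_zero _).2 x.2)
  have hS : S.ShortExact := by
    apply ModuleCat.shortComplex_shortExact
    · exact LinearMap.exact_subtype_mkQ (torsSub fs E)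
    · exact Submodule.subtype_injective _
    · exact Submodule.mkQ_surjective _
  have : Injective S.X₁ := Module.injective_object_of_injective_module A (torsSub fs E)
  let sp := hS.splittingOfInjective
  have : Injective Q := Retract.injective (Y := E) ⟨sp.s, S.g, sp.s_g⟩
  -- `Q` embeds into the product of its localizations
  have hmono : Mono (jmap (CommRingCat.of A) Q fs) := by
    rw [ModuleCat.mono_iff_injective, injective_iff_map_eq_zero]
    intro m hm
    have := (jmap_eq_zero_iff (CommRingCat.of A) Q fs m).1 hm
    rw [torsSub_quotient_eq_bot (CommRingCat.of A) fs E] at this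
    exact this
  set j : ℤ := ((q + 1 : ℕ) : ℤ) - fs.length with hj
  have hQ : Subsingleton (HL fs Q j) := by
    refine subsingleton_HL_of_retract fs (jmap (CommRingCat.of A) Q fs)
      (Injective.factorThru (𝟙 Q) (jmap (CommRingCat.of A) Q fs))
      (Injective.comp_factorThru _ _) j ?_
    exact (isGood_Eprod (CommRingCat.of A) fs Q fs (fun g hg => hg)).2.2 (q + 1)
  have hN : Subsingleton (HL fs N j) := by
    apply subsingleton_HL_of_locNil
    · intro f hf x
      obtain ⟨k, hk⟩ := x.2 f hf
      exact ⟨k, Subtype.ext hk⟩
    · rw [hj]
      push_cast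
      omega
  change Subsingleton (HL fs E j)
  refine ⟨fun a b => ?_⟩
  have key : ∀ y : HL fs E j, y = 0 := by
    intro y
    obtain ⟨t, rfl⟩ := (hl_exact₂ fs S hS j y).1 (Subsingleton.elim _ _)
    rw [Subsingleton.elim t 0, map_zero]
  rw [key a, key b]

end Groth.Agent.H8.CK
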