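import Groth.Agent.Lib.Helper2.Kos5
import Groth.Agent.Lib.Helper8.CK.DLim

/-! # The transition maps between the Koszul complexes of the powers -/

open CategoryTheory CategoryTheory.Limits CochainComplex HomologicalComplex
  CochainComplex.HomComplex

universe u

namespace Groth.Agent.H8.CK

open CohIII Groth.Agent.H2.Kos

variable {A : Type u} [CommRing A]

lemma kmap_id' (M : ModuleCat.{u} A) (l : List A) : kmap (𝟙 M) l = 𝟙 (koszulCx M l) := by
  have := kmap_smul_id M (1 : A) l
  rwa [one_smul, one_smul] at this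

lemma koszulTrans_nil (M : ModuleCat.{u} A) (n m : ℕ) (h : n ≤ m) :
    koszulTrans M n m h [] = 𝟙 _ := rfl

lemma koszulTrans_cons (M : ModuleCat.{u} A) (n m : ℕ) (h : n ≤ m) (f : A) (fs : List A) :
    koszulTrans M n m h (f :: fs) =
      mappingCone.map (f ^ n • 𝟙 (koszulCx M (fs.map (· ^ n))))
        (f ^ m • 𝟙 (koszulCx M (fs.map (· ^ m)))) (koszulTrans M n m h fs)
        (f ^ (m - n) • koszulTrans M n m h fs) (by
          simp only [Linear.smul_comp, Linear.comp_smul, Category.id_comp, Category.comp_id,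
            smul_smul, ← pow_add, Nat.sub_add_cancel h]) := rfl

lemma koszulTrans_refl (M : ModuleCat.{u} A) (n : ℕ) (fs : List A) :
    koszulTrans M n n le_rfl fs = 𝟙 _ := by
  induction fs with
  | nil => rfl
  | cons f fs ih =>
    rw [koszulTrans_cons]
    simp only [ih, Nat.sub_self, pow_zero, one_smul]
    exact mappingCone.map_id _

section general

variable {C : Type*} [Category C] [Preadditive C] [HasBinaryBiproducts C]
variable {F₁ G₁ F₂ G₂ : CochainComplex C ℤ} (φ₁ : F₁ ⟶ G₁) (φ₂ : F₂ ⟶ G₂)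

lemma cone_map_congr {a a' : F₁ ⟶ F₂} {b b' : G₁ ⟶ G₂} (ha : a = a') (hb : b = b')
    (comm : φ₁ ≫ b = a ≫ φ₂) (comm' : φ₁ ≫ b' = a' ≫ φ₂) :
    mappingCone.map φ₁ φ₂ a b comm = mappingCone.map φ₁ φ₂ a' b' comm' := by
  subst ha hb
  rfl

end general

lemma koszulTrans_comp (M : ModuleCat.{u} A) (n m k : ℕ) (h : n ≤ m) (h' : m ≤ k)
    (fs : List A) :
    koszulTrans M n m h fs ≫ koszulTrans M m k h' fs = koszulTrans M n k (h.trans h') fs := by
  induction fs with
  | nil => exact Category.id_comp _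
  | cons f fs ih =>
    rw [koszulTrans_cons, koszulTrans_cons, koszulTrans_cons]
    refine (mappingCone.map_comp _ _ _ _ _ _ _ _ _).symm.trans (cone_map_congr _ _ ih ?_ _ _)
    rw [Linear.smul_comp, Linear.comp_smul, smul_smul, ih, ← pow_add]
    congr 2
    omega

lemma koszulTrans_kmap {M N : ModuleCat.{u} A} (g : M ⟶ N) (n m : ℕ) (h : n ≤ m) (fs : List A) :
    koszulTrans M n m h fs ≫ kmap g (fs.map (· ^ m)) =
      kmap g (fs.map (· ^ n)) ≫ koszulTrans N n m h fs := by
  induction fs with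
  | nil =>
    change 𝟙 _ ≫ _ = _ ≫ 𝟙 _
    rw [Category.id_comp, Category.comp_id]
    rfl
  | cons f fs ih =>
    rw [koszulTrans_cons, koszulTrans_cons]
    change _ ≫ kmap g ((f ^ m) :: fs.map (· ^ m)) = kmap g ((f ^ n) :: fs.map (· ^ n)) ≫ _
    rw [kmap_cons, kmap_cons]
    refine (mappingCone.map_comp _ _ _ _ _ _ _ _ _).symm.trans
      (Eq.trans (cone_map_congr _ _ ih ?_ _ _) (mappingCone.map_comp _ _ _ _ _ _ _ _ _))
    rw [Linear.smul_comp, Linear.comp_smul, ih]

end Groth.Agent.H8.CK
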