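import Groth.Agent.Lib.Helper8.CK.GeoSec
import Groth.Agent.Lib.Lead.LCZ.LES
import Groth.Agent.Lib.Lead.SC.CohPsh3

/-! # Cohomology with supports in low degrees and by dimension shifting -/

universe u
open CategoryTheory Limits Opposite TopologicalSpace AlgebraicGeometry Abelian

namespace Groth.Agent.H8.CK

open Groth.Agent.LD Groth.Agent.LD.CH CohIII

section abstract

variable {X : TopCat.{u}} {W V : Opens X} (h : W ≤ V) (F : CohTop.Ab X)

/-- the boundary map on sections `F(W) → H¹_{V∖W}(V, F)`. -/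
noncomputable def d0 : F.obj.obj (op W) →+ LocCohZ.HZ F 1 h :=
  (LocCohZ.delta F 0 h).comp (SC.H0Equiv W F).symm.toAddMonoidHom

lemma d0_apply (s : F.obj.obj (op W)) :
    d0 h F s = LocCohZ.delta F 0 h ((SC.H0Equiv W F).symm s) := rfl

lemma d0_surjective (h1 : Subsingleton (CohTop.HU F 1 V)) : Function.Surjective (d0 h F) := by
  intro x
  obtain ⟨y, hy⟩ := LCZ.exists_delta_eq h F 0 x (Subsingleton.elim _ _)
  refine ⟨SC.H0Equiv W F y, ?_⟩
  rw [d0_apply, AddEquiv.symm_apply_apply]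
  exact hy

lemma H0Equiv_res (z : CohTop.HU F 0 V) :
    SC.H0Equiv W F (CohTop.res F 0 h z) = F.obj.map (homOfLE h).op (SC.H0Equiv V F z) :=
  SC.H0Equiv_Hres (homOfLE h) F z

lemma ker_d0 : (d0 h F).ker = (F.obj.map (homOfLE h).op).hom.range := by
  ext s
  rw [AddMonoidHom.mem_ker, AddMonoidHom.mem_range, d0_apply]
  constructor
  · intro hs
    obtain ⟨z, hz⟩ := LCZ.exists_res_eq h F 0 _ hs
    refine ⟨SC.H0Equiv V F z, ?_⟩
    have := H0Equiv_res h F z
    rw [hz, AddEquiv.apply_symm_apply] at this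
    exact this.symm
  · rintro ⟨t, rfl⟩
    have h2 := H0Equiv_res h F ((SC.H0Equiv V F).symm t)
    rw [AddEquiv.apply_symm_apply] at h2
    have h3 : (SC.H0Equiv W F).symm ((F.obj.map (homOfLE h).op).hom t) =
        CohTop.res F 0 h ((SC.H0Equiv V F).symm t) := by
      rw [AddEquiv.symm_apply_eq]
      exact h2.symm
    rw [h3]
    exact LCZ.delta_res h F 0 _

/-- degree one: `H¹_{V∖W}(V, F)` is the cokernel of `F(V) → F(W)` when `H¹(V, F) = 0`. -/
theorem nonempty_HZ_one (h1 : Subsingleton (CohTop.HU F 1 V)) :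
    Nonempty (LocCohZ.HZ F 1 h ≃+
      (F.obj.obj (op W)) ⧸ (F.obj.map (homOfLE h).op).hom.range) :=
  ⟨((QuotientAddGroup.quotientAddEquivOfEq (ker_d0 h F)).symm.trans
    (QuotientAddGroup.quotientKerEquivOfSurjective (d0 h F) (d0_surjective h F h1))).symm⟩

/-- degree `≥ 2`: `Hᵖ⁺¹(W, F) ≃ Hᵖ⁺²_{V∖W}(V, F)` when `Hᵖ⁺¹(V, F) = Hᵖ⁺²(V, F) = 0`. -/
theorem nonempty_HZ_succ (p : ℕ) (h1 : Subsingleton (CohTop.HU F (p + 1) V))
    (h2 : Subsingleton (CohTop.HU F (p + 2) V)) :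
    Nonempty (CohTop.HU F (p + 1) W ≃+ LocCohZ.HZ F (p + 2) h) := by
  refine ⟨AddEquiv.ofBijective (LocCohZ.delta F (p + 1) h) ⟨?_, ?_⟩⟩
  · rw [injective_iff_map_eq_zero]
    intro y hy
    obtain ⟨z, hz⟩ := LCZ.exists_res_eq h F (p + 1) y hy
    rw [← hz, Subsingleton.elim z 0, map_zero]
  · intro x
    exact LCZ.exists_delta_eq h F (p + 1) x (Subsingleton.elim _ _)

end abstract

end Groth.Agent.H8.CK
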